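import Mathlib
import Cfsg.Agent.Rec.Tree

/-! Generated by tools/rec: involutions of the Sylow subgroup -/

set_option autoImplicit false
set_option maxRecDepth 100000
set_option linter.unusedVariables false
set_option exponentiation.threshold 100000

namespace Cfsg.Agent.RuG

open Cfsg.Agent.Spor Cfsg.Agent.Rec

universe u

/-- The involutions of the Sylow subgroup, with conjugating elements. -/
noncomputable def It0 : ST :=
(.node (nat_lit 1944) (.node (nat_lit 1004) (.node (nat_lit 518) (.node (nat_lit 139) (.node (nat_lit 22) (.node (nat_lit 11) (.node (nat_lit 6) (.node (nat_lit 3) (.node (nat_lit 2) (.leaf (nat_lit 1) (nat_lit 0))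
 (.leaf (nat_lit 2) (nat_lit 0x2400000004000000))
) (.node (nat_lit 4) (.leaf (nat_lit 3) (nat_lit 0x1a00010004001000))
 (.node (nat_lit 5) (.leaf (nat_lit 4) (nat_lit 0x1000040002000000))
 (.leaf (nat_lit 5) (nat_lit 0x1080048002000800))
))) (.node (nat_lit 8) (.node (nat_lit 7) (.leaf (nat_lit 6) (nat_lit 0x2880050002002000))
 (.leaf (nat_lit 7) (nat_lit 0x2980058002002800))
) (.node (nat_lit 9) (.leaf (nat_lit 8) (nat_lit 0x400000))
 (.node (nat_lit 10) (.leaf (nat_lit 9) (nat_lit 0x9d501000400100))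
 (.leaf (nat_lit 10) (nat_lit 0x3c003000400300))
)))) (.node (nat_lit 16) (.node (nat_lit 13) (.node (nat_lit 12) (.leaf (nat_lit 11) (nat_lit 0x21402000400200))
 (.leaf (nat_lit 12) (nat_lit 0xc0005000400500))
) (.node (nat_lit 14) (.leaf (nat_lit 13) (nat_lit 0x40004000400400))
 (.node (nat_lit 15) (.leaf (nat_lit 14) (nat_lit 0x61406000400600))
 (.leaf (nat_lit 15) (nat_lit 0x7c024000402400))
))) (.node (nat_lit 19) (.node (nat_lit 17) (.leaf (nat_lit 16) (nat_lit 0xa00040000200000))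
 (.node (nat_lit 18) (.leaf (nat_lit 17) (nat_lit 0xa80041000200080))
 (.leaf (nat_lit 18) (nat_lit 0xae0045000200480))
)) (.node (nat_lit 20) (.leaf (nat_lit 19) (nat_lit 0xa6fb44000200400))
 (.node (nat_lit 21) (.leaf (nat_lit 20) (nat_lit 0xab7543000200600))
 (.leaf (nat_lit 21) (nat_lit 0xaaf742000200680))
))))) (.node (nat_lit 128) (.node (nat_lit 27) (.node (nat_lit 24) (.node (nat_lit 23) (.leaf (nat_lit 22) (nat_lit 0xacf7466b0200280))
 (.leaf (nat_lit 23) (nat_lit 0xadd7476f0200200))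
) (.node (nat_lit 25) (.leaf (nat_lit 24) (nat_lit 0x900050000202000))
 (.node (nat_lit 26) (.leaf (nat_lit 25) (nat_lit 0x980051000202080))
 (.leaf (nat_lit 26) (nat_lit 0x961455000202480))
))) (.node (nat_lit 29) (.node (nat_lit 28) (.leaf (nat_lit 27) (nat_lit 0x97c154000202400))
 (.leaf (nat_lit 28) (nat_lit 0x95d756fb02022ad))
) (.node (nat_lit 30) (.leaf (nat_lit 29) (nat_lit 0x9400576f0202200))
 (.node (nat_lit 31) (.leaf (nat_lit 30) (nat_lit 0x93c053eb0202799))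
 (.leaf (nat_lit 31) (nat_lit 0x9a3452000202718))
)))) (.node (nat_lit 133) (.node (nat_lit 130) (.node (nat_lit 129) (.leaf (nat_lit 128) (nat_lit 0x19b7500000040000))
 (.leaf (nat_lit 129) (nat_lit 0x1992000100040010))
) (.node (nat_lit 131) (.leaf (nat_lit 130) (nat_lit 0x19a0a00200040020))
 (.node (nat_lit 132) (.leaf (nat_lit 131) (nat_lit 0x1980000300040030))
 (.leaf (nat_lit 132) (nat_lit 0x19cf700500040050))
))) (.node (nat_lit 136) (.node (nat_lit 134) (.leaf (nat_lit 133) (nat_lit 0x19efb00400040040))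
 (.node (nat_lit 135) (.leaf (nat_lit 134) (nat_lit 0x19dd702000040200))
 (.leaf (nat_lit 135) (nat_lit 0x185d704000040400))
)) (.node (nat_lit 137) (.leaf (nat_lit 136) (nat_lit 0x1a00010340041034))
 (.node (nat_lit 138) (.leaf (nat_lit 137) (nat_lit 0x1a2a210200041020))
 (.leaf (nat_lit 138) (nat_lit 0x1a37510000041000))
)))))) (.node (nat_lit 416) (.node (nat_lit 261) (.node (nat_lit 256) (.node (nat_lit 141) (.node (nat_lit 140) (.leaf (nat_lit 139) (nat_lit 0x1a1d510100041010))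
 (.leaf (nat_lit 140) (nat_lit 0x1a5d714000041400))
) (.node (nat_lit 142) (.leaf (nat_lit 141) (nat_lit 0x1bdd712000041200))
 (.node (nat_lit 143) (.leaf (nat_lit 142) (nat_lit 0x1a6a2111f004111f))
 (.leaf (nat_lit 143) (nat_lit 0x1a40010400041040))
))) (.node (nat_lit 258) (.node (nat_lit 257) (.leaf (nat_lit 256) (nat_lit 0x21f7750400020000))
 (.leaf (nat_lit 257) (nat_lit 0x21dd7543e0020008))
) (.node (nat_lit 259) (.leaf (nat_lit 258) (nat_lit 0x219d550100020400))
 (.node (nat_lit 260) (.leaf (nat_lit 259) (nat_lit 0x21b7550000020040))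
 (.leaf (nat_lit 260) (nat_lit 0x21800576f0020088))
)))) (.node (nat_lit 282) (.node (nat_lit 263) (.node (nat_lit 262) (.leaf (nat_lit 261) (nat_lit 0x21af950200020080))
 (.leaf (nat_lit 262) (nat_lit 0x21efb54000020020))
) (.node (nat_lit 280) (.leaf (nat_lit 263) (nat_lit 0x21c0052000020028))
 (.node (nat_lit 281) (.leaf (nat_lit 280) (nat_lit 0x214005a000021020))
 (.leaf (nat_lit 281) (nat_lit 0x216a172000020820))
))) (.node (nat_lit 285) (.node (nat_lit 283) (.leaf (nat_lit 282) (nat_lit 0x212a158200020880))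
 (.node (nat_lit 284) (.leaf (nat_lit 283) (nat_lit 0x210005834002108a))
 (.leaf (nat_lit 284) (nat_lit 0x211d558100020c00))
)) (.node (nat_lit 286) (.leaf (nat_lit 285) (nat_lit 0x2137558000020840))
 (.node (nat_lit 287) (.leaf (nat_lit 286) (nat_lit 0x2177758400020800))
 (.leaf (nat_lit 287) (nat_lit 0x215d770400021000))
))))) (.node (nat_lit 435) (.node (nat_lit 421) (.node (nat_lit 418) (.node (nat_lit 417) (.leaf (nat_lit 416) (nat_lit 0x1021340200022080))
 (.leaf (nat_lit 417) (nat_lit 0x101d5476f0022088))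
) (.node (nat_lit 419) (.leaf (nat_lit 418) (nat_lit 0x107c1420000222ad))
 (.node (nat_lit 420) (.leaf (nat_lit 419) (nat_lit 0x1040044000022020))
 (.leaf (nat_lit 420) (nat_lit 0x103c040000022040))
))) (.node (nat_lit 432) (.node (nat_lit 422) (.leaf (nat_lit 421) (nat_lit 0x1000040100022400))
 (.node (nat_lit 423) (.leaf (nat_lit 422) (nat_lit 0x10610443e0022008))
 (.leaf (nat_lit 423) (nat_lit 0x105d740400022000))
)) (.node (nat_lit 433) (.leaf (nat_lit 432) (nat_lit 0x10bc048000022840))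
 (.node (nat_lit 434) (.leaf (nat_lit 433) (nat_lit 0x1080048100022c00))
 (.leaf (nat_lit 434) (nat_lit 0x10e14491f0023000))
)))) (.node (nat_lit 512) (.node (nat_lit 437) (.node (nat_lit 436) (.leaf (nat_lit 435) (nat_lit 0x10dd748400022800))
 (.leaf (nat_lit 436) (nat_lit 0x109d548340022877))
) (.node (nat_lit 438) (.leaf (nat_lit 437) (nat_lit 0x10a1748200022880))
 (.node (nat_lit 439) (.leaf (nat_lit 438) (nat_lit 0x10c004c000022820))
 (.leaf (nat_lit 439) (nat_lit 0x10fc14a000023020))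
))) (.node (nat_lit 515) (.node (nat_lit 513) (.leaf (nat_lit 512) (nat_lit 0xc0000))
 (.node (nat_lit 514) (.leaf (nat_lit 513) (nat_lit 0x34dd7004000c0040))
 (.leaf (nat_lit 514) (nat_lit 0x125d7004800c0048))
)) (.node (nat_lit 516) (.leaf (nat_lit 515) (nat_lit 0x255d7000800c0008))
 (.node (nat_lit 517) (.leaf (nat_lit 516) (nat_lit 0x235d7001800c0018))
 (.leaf (nat_lit 517) (nat_lit 0x5d7010000c0100))
))))))) (.node (nat_lit 825) (.node (nat_lit 659) (.node (nat_lit 576) (.node (nat_lit 563) (.node (nat_lit 560) (.node (nat_lit 519) (.leaf (nat_lit 518) (nat_lit 0x25614002000c0020))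
 (.leaf (nat_lit 519) (nat_lit 0x614001000c0010))
) (.node (nat_lit 561) (.leaf (nat_lit 560) (nat_lit 0x43375281000c2810))
 (.node (nat_lit 562) (.leaf (nat_lit 561) (nat_lit 0x525d7282000c2820))
 (.leaf (nat_lit 562) (nat_lit 0x2b75290000c2900))
))) (.node (nat_lit 565) (.node (nat_lit 564) (.leaf (nat_lit 563) (nat_lit 0x430b2281900c2819))
 (.leaf (nat_lit 564) (nat_lit 0x43000280000c2800))
) (.node (nat_lit 566) (.leaf (nat_lit 565) (nat_lit 0x520c4284000c2840))
 (.node (nat_lit 567) (.leaf (nat_lit 566) (nat_lit 0x2bc029b300c29b3))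
 (.leaf (nat_lit 567) (nat_lit 0x433c0280800c2808))
)))) (.node (nat_lit 581) (.node (nat_lit 578) (.node (nat_lit 577) (.leaf (nat_lit 576) (nat_lit 0x2b5d700000100000))
 (.leaf (nat_lit 577) (nat_lit 0x2b00000400100040))
) (.node (nat_lit 579) (.leaf (nat_lit 578) (nat_lit 0x4780000480100048))
 (.node (nat_lit 580) (.leaf (nat_lit 579) (nat_lit 0x47efb00080100008))
 (.leaf (nat_lit 580) (nat_lit 0x2b37504000100400))
))) (.node (nat_lit 656) (.node (nat_lit 582) (.leaf (nat_lit 581) (nat_lit 0x47dd701080100108))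
 (.node (nat_lit 583) (.leaf (nat_lit 582) (nat_lit 0x47cf701000100100))
 (.leaf (nat_lit 583) (nat_lit 0x5323400100100010))
)) (.node (nat_lit 657) (.leaf (nat_lit 656) (nat_lit 0x245d7080800e0808))
 (.node (nat_lit 658) (.leaf (nat_lit 657) (nat_lit 0x12dd7084800e0848))
 (.leaf (nat_lit 658) (nat_lit 0x35dd7084000e0840))
))))) (.node (nat_lit 686) (.node (nat_lit 680) (.node (nat_lit 661) (.node (nat_lit 660) (.leaf (nat_lit 659) (nat_lit 0x800080000e0800))
 (.leaf (nat_lit 660) (nat_lit 0x24614082000e0820))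
) (.node (nat_lit 662) (.leaf (nat_lit 661) (nat_lit 0x12e81081000e0810))
 (.node (nat_lit 663) (.leaf (nat_lit 662) (nat_lit 0x35e39081800e0818))
 (.leaf (nat_lit 663) (nat_lit 0xdd7090000e0900))
))) (.node (nat_lit 683) (.node (nat_lit 681) (.leaf (nat_lit 680) (nat_lit 0x42efb201000e2010))
 (.node (nat_lit 682) (.leaf (nat_lit 681) (nat_lit 0x53dd7202000e2020))
 (.leaf (nat_lit 682) (nat_lit 0x25d7210000e2100))
)) (.node (nat_lit 684) (.leaf (nat_lit 683) (nat_lit 0x42d38201800e2018))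
 (.node (nat_lit 685) (.leaf (nat_lit 684) (nat_lit 0x539ec204000e2040))
 (.leaf (nat_lit 685) (nat_lit 0x42800200000e2000))
)))) (.node (nat_lit 715) (.node (nat_lit 712) (.node (nat_lit 687) (.leaf (nat_lit 686) (nat_lit 0x42bc0200800e2008))
 (.leaf (nat_lit 687) (nat_lit 0x23c0204800e2048))
) (.node (nat_lit 713) (.leaf (nat_lit 712) (nat_lit 0x46af908100160810))
 (.node (nat_lit 714) (.leaf (nat_lit 713) (nat_lit 0x46c0009000160900))
 (.leaf (nat_lit 714) (nat_lit 0x46dd7085d016085d))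
))) (.node (nat_lit 718) (.node (nat_lit 716) (.leaf (nat_lit 715) (nat_lit 0x46b750c000160c00))
 (.node (nat_lit 717) (.leaf (nat_lit 716) (nat_lit 0x4680020400162040))
 (.leaf (nat_lit 717) (nat_lit 0x46efb20000162000))
)) (.node (nat_lit 719) (.leaf (nat_lit 718) (nat_lit 0x46f7708000160800))
 (.node (nat_lit 824) (.leaf (nat_lit 719) (nat_lit 0x2a00008400160840))
 (.leaf (nat_lit 824) (nat_lit 0x251d7104e012104e))
)))))) (.node (nat_lit 886) (.node (nat_lit 851) (.node (nat_lit 830) (.node (nat_lit 827) (.node (nat_lit 826) (.leaf (nat_lit 825) (nat_lit 0x2540010080121008))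
 (.leaf (nat_lit 826) (nat_lit 0x2500010400121040))
) (.node (nat_lit 828) (.leaf (nat_lit 827) (nat_lit 0x255d710000121000))
 (.node (nat_lit 829) (.leaf (nat_lit 828) (nat_lit 0x257c011000121100))
 (.leaf (nat_lit 829) (nat_lit 0x2521410100121010))
))) (.node (nat_lit 848) (.node (nat_lit 831) (.leaf (nat_lit 830) (nat_lit 0x2561411080121108))
 (.leaf (nat_lit 831) (nat_lit 0x253c014000121400))
) (.node (nat_lit 849) (.leaf (nat_lit 848) (nat_lit 0x483c030100083010))
 (.node (nat_lit 850) (.leaf (nat_lit 849) (nat_lit 0x4837530200083020))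
 (.leaf (nat_lit 850) (nat_lit 0x393c030190083019))
)))) (.node (nat_lit 880) (.node (nat_lit 853) (.node (nat_lit 852) (.leaf (nat_lit 851) (nat_lit 0x3953831000083100))
 (.leaf (nat_lit 852) (nat_lit 0x4800030000083000))
) (.node (nat_lit 854) (.leaf (nat_lit 853) (nat_lit 0x4879930400083040))
 (.node (nat_lit 855) (.leaf (nat_lit 854) (nat_lit 0x3925630080083008))
 (.leaf (nat_lit 855) (nat_lit 0x394ad304e008304e))
))) (.node (nat_lit 883) (.node (nat_lit 881) (.leaf (nat_lit 880) (nat_lit 0x2b3c011000081100))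
 (.node (nat_lit 882) (.leaf (nat_lit 881) (nat_lit 0x1d5d710180081018))
 (.leaf (nat_lit 882) (nat_lit 0x2b53810200081020))
)) (.node (nat_lit 884) (.leaf (nat_lit 883) (nat_lit 0x2b4ad10100081010))
 (.node (nat_lit 885) (.leaf (nat_lit 884) (nat_lit 0x163c010400081040))
 (.leaf (nat_lit 885) (nat_lit 0x1600010000081000))
))))) (.node (nat_lit 961) (.node (nat_lit 955) (.node (nat_lit 952) (.node (nat_lit 887) (.leaf (nat_lit 886) (nat_lit 0x16375104e008104e))
 (.leaf (nat_lit 887) (nat_lit 0x1679910080081008))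
) (.node (nat_lit 953) (.leaf (nat_lit 952) (nat_lit 0x2400018400141840))
 (.node (nat_lit 954) (.leaf (nat_lit 953) (nat_lit 0x245d718000141800))
 (.leaf (nat_lit 954) (nat_lit 0x241d538400143840))
))) (.node (nat_lit 958) (.node (nat_lit 956) (.leaf (nat_lit 955) (nat_lit 0x2440038000143800))
 (.node (nat_lit 957) (.leaf (nat_lit 956) (nat_lit 0x243c01c000141c00))
 (.leaf (nat_lit 957) (nat_lit 0x24614185d014185d))
)) (.node (nat_lit 959) (.leaf (nat_lit 958) (nat_lit 0x2421718100141810))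
 (.node (nat_lit 960) (.leaf (nat_lit 959) (nat_lit 0x247c119000141900))
 (.leaf (nat_lit 960) (nat_lit 0x49800380000a3800))
)))) (.node (nat_lit 966) (.node (nat_lit 963) (.node (nat_lit 962) (.leaf (nat_lit 961) (nat_lit 0x49ec4384000a3840))
 (.leaf (nat_lit 962) (nat_lit 0x387dd380800a3808))
) (.node (nat_lit 964) (.leaf (nat_lit 963) (nat_lit 0x384ad383f00a383f))
 (.node (nat_lit 965) (.leaf (nat_lit 964) (nat_lit 0x49b75382000a3820))
 (.leaf (nat_lit 965) (nat_lit 0x49bc0381000a3810))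
))) (.node (nat_lit 1001) (.node (nat_lit 967) (.leaf (nat_lit 966) (nat_lit 0x380b2390000a3900))
 (.node (nat_lit 1000) (.leaf (nat_lit 967) (nat_lit 0x383c0381800a3818))
 (.leaf (nat_lit 1000) (nat_lit 0x16b75183e00a183e))
)) (.node (nat_lit 1002) (.leaf (nat_lit 1001) (nat_lit 0x168b2180800a1808))
 (.node (nat_lit 1003) (.leaf (nat_lit 1002) (nat_lit 0x16bc0184000a1840))
 (.leaf (nat_lit 1003) (nat_lit 0x16800180000a1800))
)))))))) (.node (nat_lit 1490) (.node (nat_lit 1247) (.node (nat_lit 1097) (.node (nat_lit 1030) (.node (nat_lit 1025) (.node (nat_lit 1006) (.node (nat_lit 1005) (.leaf (nat_lit 1004) (nat_lit 0x2a4ad181000a1810))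
 (.leaf (nat_lit 1005) (nat_lit 0x2a538182000a1820))
) (.node (nat_lit 1007) (.leaf (nat_lit 1006) (nat_lit 0x1ddd7181800a1818))
 (.node (nat_lit 1024) (.leaf (nat_lit 1007) (nat_lit 0x2a3c0190000a1900))
 (.leaf (nat_lit 1024) (nat_lit 0x7000700000e0000))
))) (.node (nat_lit 1027) (.node (nat_lit 1026) (.leaf (nat_lit 1025) (nat_lit 0x3a375704000e0048))
 (.leaf (nat_lit 1026) (nat_lit 0x7375710000e0100))
) (.node (nat_lit 1028) (.leaf (nat_lit 1027) (nat_lit 0x3a3c0701800e0010))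
 (.node (nat_lit 1029) (.leaf (nat_lit 1028) (nat_lit 0x4f375702000e0040))
 (.leaf (nat_lit 1029) (nat_lit 0x76c4701000e0008))
)))) (.node (nat_lit 1083) (.node (nat_lit 1080) (.node (nat_lit 1031) (.leaf (nat_lit 1030) (nat_lit 0x3cbc0700800e0018))
 (.leaf (nat_lit 1031) (nat_lit 0x73c0743e00e0020))
) (.node (nat_lit 1081) (.leaf (nat_lit 1080) (nat_lit 0x10e14980800e0000))
 (.node (nat_lit 1082) (.leaf (nat_lit 1081) (nat_lit 0x10dd7983f00e0400))
 (.leaf (nat_lit 1082) (nat_lit 0x9dd7990000e0200))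
))) (.node (nat_lit 1086) (.node (nat_lit 1084) (.leaf (nat_lit 1083) (nat_lit 0x1b5d7981800e0010))
 (.node (nat_lit 1085) (.leaf (nat_lit 1084) (nat_lit 0x1b639982000e0080))
 (.leaf (nat_lit 1085) (nat_lit 0x9e14981000e0008))
)) (.node (nat_lit 1087) (.leaf (nat_lit 1086) (nat_lit 0x10800980000e0018))
 (.node (nat_lit 1096) (.leaf (nat_lit 1087) (nat_lit 0x10bc0984000e0020))
 (.leaf (nat_lit 1096) (nat_lit 0x28e1071b00120000))
))))) (.node (nat_lit 1180) (.node (nat_lit 1102) (.node (nat_lit 1099) (.node (nat_lit 1098) (.leaf (nat_lit 1097) (nat_lit 0x28bc074000120400))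
 (.leaf (nat_lit 1098) (nat_lit 0x28c0070000120080))
) (.node (nat_lit 1100) (.leaf (nat_lit 1099) (nat_lit 0x289d570400120010))
 (.node (nat_lit 1101) (.leaf (nat_lit 1100) (nat_lit 0x28dd770080120040))
 (.leaf (nat_lit 1101) (nat_lit 0x2880071a40120008))
))) (.node (nat_lit 1177) (.node (nat_lit 1103) (.leaf (nat_lit 1102) (nat_lit 0x28fc171000120020))
 (.node (nat_lit 1176) (.leaf (nat_lit 1103) (nat_lit 0x28a1370100120088))
 (.leaf (nat_lit 1176) (nat_lit 0x42efb50000101080))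
)) (.node (nat_lit 1178) (.leaf (nat_lit 1177) (nat_lit 0x4280050400101010))
 (.node (nat_lit 1179) (.leaf (nat_lit 1178) (nat_lit 0x42b7554000101400))
 (.leaf (nat_lit 1179) (nat_lit 0x42dd751080101000))
)))) (.node (nat_lit 1241) (.node (nat_lit 1182) (.node (nat_lit 1181) (.leaf (nat_lit 1180) (nat_lit 0x42c0051000101020))
 (.leaf (nat_lit 1181) (nat_lit 0x42af95010010108a))
) (.node (nat_lit 1183) (.leaf (nat_lit 1182) (nat_lit 0x2e80051a40101008))
 (.node (nat_lit 1240) (.leaf (nat_lit 1183) (nat_lit 0x42f7750080101040))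
 (.leaf (nat_lit 1240) (nat_lit 0x46dd7501000a1008))
))) (.node (nat_lit 1244) (.node (nat_lit 1242) (.leaf (nat_lit 1241) (nat_lit 0x4d375502000a1040))
 (.node (nat_lit 1243) (.leaf (nat_lit 1242) (nat_lit 0x46bc0500800a1018))
 (.leaf (nat_lit 1243) (nat_lit 0x46f36543e00a1020))
)) (.node (nat_lit 1245) (.leaf (nat_lit 1244) (nat_lit 0x4d799504000a104e))
 (.node (nat_lit 1246) (.leaf (nat_lit 1245) (nat_lit 0x46800500000a1000))
 (.leaf (nat_lit 1246) (nat_lit 0x55d7510000a1100))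
)))))) (.node (nat_lit 1332) (.node (nat_lit 1297) (.node (nat_lit 1268) (.node (nat_lit 1265) (.node (nat_lit 1264) (.leaf (nat_lit 1247) (nat_lit 0x46e10501800a1010))
 (.leaf (nat_lit 1264) (nat_lit 0x28dd7b80800a1000))
) (.node (nat_lit 1266) (.leaf (nat_lit 1265) (nat_lit 0x14dd7b9b300a1400))
 (.node (nat_lit 1267) (.leaf (nat_lit 1266) (nat_lit 0x44614b81900a1010))
 (.leaf (nat_lit 1267) (nat_lit 0x28bc0b90000a1200))
))) (.node (nat_lit 1270) (.node (nat_lit 1269) (.leaf (nat_lit 1268) (nat_lit 0x28e10b82000a1080))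
 (.leaf (nat_lit 1269) (nat_lit 0x445d7b81000a1008))
) (.node (nat_lit 1271) (.leaf (nat_lit 1270) (nat_lit 0x14e39b84000a1020))
 (.node (nat_lit 1296) (.leaf (nat_lit 1271) (nat_lit 0x28800b80000a14dd))
 (.leaf (nat_lit 1296) (nat_lit 0x47e1058190081810))
)))) (.node (nat_lit 1302) (.node (nat_lit 1299) (.node (nat_lit 1298) (.leaf (nat_lit 1297) (nat_lit 0x47ae659000081900))
 (.leaf (nat_lit 1298) (nat_lit 0x4c80058000081800))
) (.node (nat_lit 1300) (.leaf (nat_lit 1299) (nat_lit 0x4cf995840008183e))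
 (.node (nat_lit 1301) (.leaf (nat_lit 1300) (nat_lit 0x47bc058080081818))
 (.leaf (nat_lit 1301) (nat_lit 0x47f36584e0081820))
))) (.node (nat_lit 1329) (.node (nat_lit 1303) (.leaf (nat_lit 1302) (nat_lit 0x4cbc058100081808))
 (.node (nat_lit 1328) (.leaf (nat_lit 1303) (nat_lit 0x4cb7558200081840))
 (.leaf (nat_lit 1328) (nat_lit 0x45dd7b0100081808))
)) (.node (nat_lit 1330) (.leaf (nat_lit 1329) (nat_lit 0x298b2b0200081880))
 (.node (nat_lit 1331) (.leaf (nat_lit 1330) (nat_lit 0x29800b0000081852))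
 (.leaf (nat_lit 1331) (nat_lit 0x14312b0400081820))
))))) (.node (nat_lit 1359) (.node (nat_lit 1353) (.node (nat_lit 1334) (.node (nat_lit 1333) (.leaf (nat_lit 1332) (nat_lit 0x29b75b0080081800))
 (.leaf (nat_lit 1333) (nat_lit 0x145d7b04e0081c00))
) (.node (nat_lit 1335) (.leaf (nat_lit 1334) (nat_lit 0x458c4b0190081810))
 (.node (nat_lit 1352) (.leaf (nat_lit 1335) (nat_lit 0x29bc0b1000081a00))
 (.leaf (nat_lit 1352) (nat_lit 0x433755c000161c00))
))) (.node (nat_lit 1356) (.node (nat_lit 1354) (.leaf (nat_lit 1353) (nat_lit 0x435d75a930161800))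
 (.node (nat_lit 1355) (.leaf (nat_lit 1354) (nat_lit 0x436fb58000161880))
 (.leaf (nat_lit 1355) (nat_lit 0x4300058400161810))
)) (.node (nat_lit 1357) (.leaf (nat_lit 1356) (nat_lit 0x2fdd758080161840))
 (.node (nat_lit 1358) (.leaf (nat_lit 1357) (nat_lit 0x2f800584e0161808))
 (.leaf (nat_lit 1358) (nat_lit 0x2fa3458100161852))
)))) (.node (nat_lit 1412) (.node (nat_lit 1409) (.node (nat_lit 1408) (.leaf (nat_lit 1359) (nat_lit 0x4340059000161820))
 (.leaf (nat_lit 1408) (nat_lit 0x299d578400140810))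
) (.node (nat_lit 1410) (.leaf (nat_lit 1409) (nat_lit 0x29c0078000140880))
 (.node (nat_lit 1411) (.leaf (nat_lit 1410) (nat_lit 0x29b757c000140c00))
 (.leaf (nat_lit 1411) (nat_lit 0x29ea2785d0140800))
))) (.node (nat_lit 1415) (.node (nat_lit 1413) (.leaf (nat_lit 1412) (nat_lit 0x29f7779000140820))
 (.node (nat_lit 1414) (.leaf (nat_lit 1413) (nat_lit 0x29aa278100140888))
 (.leaf (nat_lit 1414) (nat_lit 0x29dd790000140840))
)) (.node (nat_lit 1488) (.leaf (nat_lit 1415) (nat_lit 0x2980090400140808))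
 (.node (nat_lit 1489) (.leaf (nat_lit 1488) (nat_lit 0x3dbc0780800c0818))
 (.leaf (nat_lit 1489) (nat_lit 0x7bc079b000c0820))
))))))) (.node (nat_lit 1725) (.node (nat_lit 1543) (.node (nat_lit 1508) (.node (nat_lit 1495) (.node (nat_lit 1492) (.node (nat_lit 1491) (.leaf (nat_lit 1490) (nat_lit 0x3dcad782000c0840))
 (.leaf (nat_lit 1491) (nat_lit 0x7ec4781000c0808))
) (.node (nat_lit 1493) (.leaf (nat_lit 1492) (nat_lit 0x3b3c07de300c0810))
 (.node (nat_lit 1494) (.leaf (nat_lit 1493) (nat_lit 0x7b75790000c0900))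
 (.leaf (nat_lit 1494) (nat_lit 0x3b375784000c0848))
))) (.node (nat_lit 1505) (.node (nat_lit 1504) (.leaf (nat_lit 1495) (nat_lit 0x7800780000c0800))
 (.leaf (nat_lit 1504) (nat_lit 0x9614901000c0808))
) (.node (nat_lit 1506) (.leaf (nat_lit 1505) (nat_lit 0x1ae39902000c0880))
 (.node (nat_lit 1507) (.leaf (nat_lit 1506) (nat_lit 0x305d7904000c0820))
 (.leaf (nat_lit 1507) (nat_lit 0x10000900000c0818))
)))) (.node (nat_lit 1537) (.node (nat_lit 1510) (.node (nat_lit 1509) (.leaf (nat_lit 1508) (nat_lit 0x30681900800c0800))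
 (.leaf (nat_lit 1509) (nat_lit 0x105d793c000c0c00))
) (.node (nat_lit 1511) (.leaf (nat_lit 1510) (nat_lit 0x95d7910000c0a00))
 (.node (nat_lit 1536) (.leaf (nat_lit 1511) (nat_lit 0x1add7901800c0810))
 (.leaf (nat_lit 1536) (nat_lit 0x18000a8000083818))
))) (.node (nat_lit 1540) (.node (nat_lit 1538) (.leaf (nat_lit 1537) (nat_lit 0x1820aa8400083820))
 (.node (nat_lit 1539) (.leaf (nat_lit 1538) (nat_lit 0xad38a8100083808))
 (.leaf (nat_lit 1539) (nat_lit 0xacf7a8200083880))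
)) (.node (nat_lit 1541) (.leaf (nat_lit 1540) (nat_lit 0xaa0aa8080083800))
 (.node (nat_lit 1542) (.leaf (nat_lit 1541) (nat_lit 0xabc0a84e0083c00))
 (.leaf (nat_lit 1542) (nat_lit 0x186fba8190083810))
))))) (.node (nat_lit 1618) (.node (nat_lit 1572) (.node (nat_lit 1569) (.node (nat_lit 1568) (.leaf (nat_lit 1543) (nat_lit 0x184f7a9000083a00))
 (.leaf (nat_lit 1568) (nat_lit 0x4c00048000083800))
) (.node (nat_lit 1570) (.leaf (nat_lit 1569) (nat_lit 0x4c5384840008383f))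
 (.node (nat_lit 1571) (.leaf (nat_lit 1570) (nat_lit 0x4c20948180083810))
 (.leaf (nat_lit 1571) (nat_lit 0x4c73649000083900))
))) (.node (nat_lit 1575) (.node (nat_lit 1573) (.leaf (nat_lit 1572) (nat_lit 0x4c1cb48080083818))
 (.node (nat_lit 1574) (.leaf (nat_lit 1573) (nat_lit 0x4c4f7484e0083820))
 (.leaf (nat_lit 1574) (nat_lit 0x4c3c048100083808))
)) (.node (nat_lit 1616) (.leaf (nat_lit 1575) (nat_lit 0x4c6fb48200083840))
 (.node (nat_lit 1617) (.leaf (nat_lit 1616) (nat_lit 0x4263048000143880))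
 (.leaf (nat_lit 1617) (nat_lit 0x4200048400143810))
)))) (.node (nat_lit 1623) (.node (nat_lit 1620) (.node (nat_lit 1619) (.leaf (nat_lit 1618) (nat_lit 0x423c04c000143c00))
 (.leaf (nat_lit 1619) (nat_lit 0x425d749080143800))
) (.node (nat_lit 1621) (.leaf (nat_lit 1620) (nat_lit 0x427c148080143840))
 (.node (nat_lit 1622) (.leaf (nat_lit 1621) (nat_lit 0x44000484e0143808))
 (.leaf (nat_lit 1622) (nat_lit 0x4223448100143f99))
))) (.node (nat_lit 1722) (.node (nat_lit 1720) (.leaf (nat_lit 1623) (nat_lit 0x4240049000143820))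
 (.node (nat_lit 1721) (.leaf (nat_lit 1720) (nat_lit 0x4defb60000102880))
 (.leaf (nat_lit 1721) (nat_lit 0x4d92060400102810))
)) (.node (nat_lit 1723) (.leaf (nat_lit 1722) (nat_lit 0x4dcf7605d0102800))
 (.node (nat_lit 1724) (.leaf (nat_lit 1723) (nat_lit 0x4db7564000102c00))
 (.leaf (nat_lit 1724) (nat_lit 0x4d80080400102808))
)))))) (.node (nat_lit 1802) (.node (nat_lit 1735) (.node (nat_lit 1730) (.node (nat_lit 1727) (.node (nat_lit 1726) (.leaf (nat_lit 1725) (nat_lit 0x4df8480000102840))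
 (.leaf (nat_lit 1726) (nat_lit 0x4da0a601001029b3))
) (.node (nat_lit 1728) (.leaf (nat_lit 1727) (nat_lit 0x4ddd761000102820))
 (.node (nat_lit 1729) (.leaf (nat_lit 1728) (nat_lit 0x21d3861b000e2820))
 (.leaf (nat_lit 1729) (nat_lit 0x21f36600800e2819))
))) (.node (nat_lit 1732) (.node (nat_lit 1731) (.leaf (nat_lit 1730) (nat_lit 0x3d5d7601000e2808))
 (.leaf (nat_lit 1731) (nat_lit 0x21bc0602000e2840))
) (.node (nat_lit 1733) (.leaf (nat_lit 1732) (nat_lit 0x21800600000e2800))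
 (.node (nat_lit 1734) (.leaf (nat_lit 1733) (nat_lit 0x3add7604000e29b3))
 (.leaf (nat_lit 1734) (nat_lit 0x21cf7610000e2900))
)))) (.node (nat_lit 1788) (.node (nat_lit 1785) (.node (nat_lit 1784) (.leaf (nat_lit 1735) (nat_lit 0x21efb65e300e2810))
 (.leaf (nat_lit 1784) (nat_lit 0x415d7801000e2808))
) (.node (nat_lit 1786) (.leaf (nat_lit 1785) (nat_lit 0x1bbc0802000e2880))
 (.node (nat_lit 1787) (.leaf (nat_lit 1786) (nat_lit 0x30dd7804000e2820))
 (.leaf (nat_lit 1787) (nat_lit 0x1b800800000e2819))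
))) (.node (nat_lit 1791) (.node (nat_lit 1789) (.leaf (nat_lit 1788) (nat_lit 0x308c4810000e2a00))
 (.node (nat_lit 1790) (.leaf (nat_lit 1789) (nat_lit 0x1bb75801800e2810))
 (.leaf (nat_lit 1790) (nat_lit 0x41312800800e2800))
)) (.node (nat_lit 1800) (.leaf (nat_lit 1791) (nat_lit 0x1b8b0804800e2c00))
 (.node (nat_lit 1801) (.leaf (nat_lit 1800) (nat_lit 0x43e3440000123080))
 (.leaf (nat_lit 1801) (nat_lit 0x4380040400123010))
))))) (.node (nat_lit 1861) (.node (nat_lit 1807) (.node (nat_lit 1804) (.node (nat_lit 1803) (.leaf (nat_lit 1802) (nat_lit 0x43bc044000123400))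
 (.leaf (nat_lit 1803) (nat_lit 0x43dd741080123000))
) (.node (nat_lit 1805) (.leaf (nat_lit 1804) (nat_lit 0x4580041a40123008))
 (.node (nat_lit 1806) (.leaf (nat_lit 1805) (nat_lit 0x43fc040080123040))
 (.leaf (nat_lit 1806) (nat_lit 0x43c0041000123020))
))) (.node (nat_lit 1858) (.node (nat_lit 1856) (.leaf (nat_lit 1807) (nat_lit 0x43a344010012308a))
 (.node (nat_lit 1857) (.leaf (nat_lit 1856) (nat_lit 0x19f36a00800a3000))
 (.leaf (nat_lit 1857) (nat_lit 0x19d38a1b300a3400))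
)) (.node (nat_lit 1859) (.leaf (nat_lit 1858) (nat_lit 0x19efba01900a3010))
 (.node (nat_lit 1860) (.leaf (nat_lit 1859) (nat_lit 0x19cf7a10000a3200))
 (.leaf (nat_lit 1860) (nat_lit 0x19a0aa04000a3020))
)))) (.node (nat_lit 1898) (.node (nat_lit 1863) (.node (nat_lit 1862) (.leaf (nat_lit 1861) (nat_lit 0x19800a00000a34dd))
 (.leaf (nat_lit 1862) (nat_lit 0x19bc0a02000a3080))
) (.node (nat_lit 1896) (.leaf (nat_lit 1863) (nat_lit 0x199c8a01000a3008))
 (.node (nat_lit 1897) (.leaf (nat_lit 1896) (nat_lit 0x4dbc0401000a3008))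
 (.leaf (nat_lit 1897) (nat_lit 0x4ddd7402000a3040))
))) (.node (nat_lit 1901) (.node (nat_lit 1899) (.leaf (nat_lit 1898) (nat_lit 0x4dae6400800a3019))
 (.node (nat_lit 1900) (.leaf (nat_lit 1899) (nat_lit 0x4dcf7443e00a3020))
 (.leaf (nat_lit 1900) (nat_lit 0x4df36410000a3100))
)) (.node (nat_lit 1902) (.leaf (nat_lit 1901) (nat_lit 0x4d920401800a3010))
 (.node (nat_lit 1903) (.leaf (nat_lit 1902) (nat_lit 0x4de10404000a304e))
 (.leaf (nat_lit 1903) (nat_lit 0x4d800400000a3000))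
))))))))) (.node (nat_lit 6378) (.node (nat_lit 2522) (.node (nat_lit 2179) (.node (nat_lit 2037) (.node (nat_lit 1962) (.node (nat_lit 1949) (.node (nat_lit 1946) (.node (nat_lit 1945) (.leaf (nat_lit 1944) (nat_lit 0x3bdd7684000c2048))
 (.leaf (nat_lit 1945) (nat_lit 0x21000680000c2000))
) (.node (nat_lit 1947) (.leaf (nat_lit 1946) (nat_lit 0x215d7686a00c2010))
 (.node (nat_lit 1948) (.leaf (nat_lit 1947) (nat_lit 0x3be14690000c2100))
 (.leaf (nat_lit 1948) (nat_lit 0x21610683e00c2020))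
))) (.node (nat_lit 1951) (.node (nat_lit 1950) (.leaf (nat_lit 1949) (nat_lit 0x3c639680800c2018))
 (.leaf (nat_lit 1950) (nat_lit 0x3c5d7681000c2008))
) (.node (nat_lit 1960) (.leaf (nat_lit 1951) (nat_lit 0x213c0682000c2040))
 (.node (nat_lit 1961) (.leaf (nat_lit 1960) (nat_lit 0x40b12880800c2000))
 (.leaf (nat_lit 1961) (nat_lit 0x1a0b2883f00c2400))
)))) (.node (nat_lit 1967) (.node (nat_lit 1964) (.node (nat_lit 1963) (.leaf (nat_lit 1962) (nat_lit 0x310c4890000c2200))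
 (.leaf (nat_lit 1963) (nat_lit 0x1a375881800c2010))
) (.node (nat_lit 1965) (.leaf (nat_lit 1964) (nat_lit 0x1a000880000c2018))
 (.node (nat_lit 1966) (.leaf (nat_lit 1965) (nat_lit 0x315d7884000c2020))
 (.leaf (nat_lit 1966) (nat_lit 0x1a3c0882000c2080))
))) (.node (nat_lit 2034) (.node (nat_lit 2032) (.leaf (nat_lit 1967) (nat_lit 0x40dd7881000c2008))
 (.node (nat_lit 2033) (.leaf (nat_lit 2032) (nat_lit 0x4c3756c000162400))
 (.leaf (nat_lit 2033) (nat_lit 0x4c4f7685d0162000))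
)) (.node (nat_lit 2035) (.leaf (nat_lit 2034) (nat_lit 0x4c12068400162010))
 (.node (nat_lit 2036) (.leaf (nat_lit 2035) (nat_lit 0x4c6fb68000162080))
 (.leaf (nat_lit 2036) (nat_lit 0x4c20968100162799))
))))) (.node (nat_lit 2068) (.node (nat_lit 2050) (.node (nat_lit 2039) (.node (nat_lit 2038) (.leaf (nat_lit 2037) (nat_lit 0x4c5d769000162020))
 (.leaf (nat_lit 2038) (nat_lit 0x4c00088400162008))
) (.node (nat_lit 2048) (.leaf (nat_lit 2039) (nat_lit 0x4c78488000162040))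
 (.node (nat_lit 2049) (.leaf (nat_lit 2048) (nat_lit 65536))
 (.leaf (nat_lit 2049) (nat_lit 0x89000040010004))
))) (.node (nat_lit 2057) (.node (nat_lit 2051) (.leaf (nat_lit 2050) (nat_lit 0x9d501440010144))
 (.node (nat_lit 2056) (.leaf (nat_lit 2051) (nat_lit 0x1d301400010140))
 (.leaf (nat_lit 2056) (nat_lit 0x1f001600010160))
)) (.node (nat_lit 2058) (.leaf (nat_lit 2057) (nat_lit 0x1f601670010167))
 (.node (nat_lit 2059) (.leaf (nat_lit 2058) (nat_lit 0xb700200010020))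
 (.leaf (nat_lit 2059) (nat_lit 0xb000240010024))
)))) (.node (nat_lit 2077) (.node (nat_lit 2070) (.node (nat_lit 2069) (.leaf (nat_lit 2068) (nat_lit 0x298901260010126))
 (.leaf (nat_lit 2069) (nat_lit 0x298d01200010120))
) (.node (nat_lit 2071) (.leaf (nat_lit 2070) (nat_lit 0x28d400640010064))
 (.node (nat_lit 2076) (.leaf (nat_lit 2071) (nat_lit 0x28d000600010060))
 (.leaf (nat_lit 2076) (nat_lit 0x18c400440010044))
))) (.node (nat_lit 2176) (.node (nat_lit 2078) (.leaf (nat_lit 2077) (nat_lit 0x28ef00400010040))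
 (.node (nat_lit 2079) (.leaf (nat_lit 2078) (nat_lit 0x293901000010100))
 (.leaf (nat_lit 2079) (nat_lit 0x191301040010104))
)) (.node (nat_lit 2177) (.leaf (nat_lit 2176) (nat_lit 0x2ba203200010320))
 (.node (nat_lit 2178) (.leaf (nat_lit 2177) (nat_lit 0x1ad003250010325))
 (.leaf (nat_lit 2178) (nat_lit 0x1b0502600010260))
)))))) (.node (nat_lit 2388) (.node (nat_lit 2201) (.node (nat_lit 2192) (.node (nat_lit 2185) (.node (nat_lit 2184) (.leaf (nat_lit 2179) (nat_lit 0x2afe02670010267))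
 (.leaf (nat_lit 2184) (nat_lit 0x2b1603000010300))
) (.node (nat_lit 2186) (.leaf (nat_lit 2185) (nat_lit 0x2b1203050010305))
 (.node (nat_lit 2187) (.leaf (nat_lit 2186) (nat_lit 0x1b2102440010244))
 (.leaf (nat_lit 2187) (nat_lit 0x2a4902400010240))
))) (.node (nat_lit 2194) (.node (nat_lit 2193) (.leaf (nat_lit 2192) (nat_lit 0x3c003450010345))
 (.leaf (nat_lit 2193) (nat_lit 0xbc012200011220))
) (.node (nat_lit 2195) (.leaf (nat_lit 2194) (nat_lit 0x21402000010200))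
 (.node (nat_lit 2200) (.leaf (nat_lit 2195) (nat_lit 0xa1402040010204))
 (.leaf (nat_lit 2200) (nat_lit 0xb7512040011204))
)))) (.node (nat_lit 2374) (.node (nat_lit 2203) (.node (nat_lit 2202) (.leaf (nat_lit 2201) (nat_lit 0x37512000011200))
 (.leaf (nat_lit 2202) (nat_lit 0xa3402260010226))
) (.node (nat_lit 2372) (.leaf (nat_lit 2203) (nat_lit 0x23402200010220))
 (.node (nat_lit 2373) (.leaf (nat_lit 2372) (nat_lit 0xe1024630012463))
 (.leaf (nat_lit 2373) (nat_lit 0x7c00e000010e00))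
))) (.node (nat_lit 2377) (.node (nat_lit 2375) (.leaf (nat_lit 2374) (nat_lit 0x61006040010604))
 (.node (nat_lit 2376) (.leaf (nat_lit 2375) (nat_lit 0x61406000010600))
 (.leaf (nat_lit 2376) (nat_lit 0x7e224440012444))
)) (.node (nat_lit 2378) (.leaf (nat_lit 2377) (nat_lit 0x77524400012440))
 (.node (nat_lit 2379) (.leaf (nat_lit 2378) (nat_lit 0x63025000012500))
 (.leaf (nat_lit 2379) (nat_lit 0x6a106200010620))
))))) (.node (nat_lit 2499) (.node (nat_lit 2393) (.node (nat_lit 2390) (.node (nat_lit 2389) (.leaf (nat_lit 2388) (nat_lit 0x1e1406600010660))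
 (.leaf (nat_lit 2389) (nat_lit 0x2cb106650010665))
) (.node (nat_lit 2391) (.leaf (nat_lit 2390) (nat_lit 0x2d6224270012427))
 (.node (nat_lit 2392) (.leaf (nat_lit 2391) (nat_lit 0x1fc124200012420))
 (.leaf (nat_lit 2392) (nat_lit 0x2c0006400010640))
))) (.node (nat_lit 2496) (.node (nat_lit 2394) (.leaf (nat_lit 2393) (nat_lit 0x1e3006450010645))
 (.node (nat_lit 2395) (.leaf (nat_lit 2394) (nat_lit 0x2dd724000012400))
 (.leaf (nat_lit 2395) (nat_lit 0x2dd324040012404))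
)) (.node (nat_lit 2497) (.leaf (nat_lit 2496) (nat_lit 0x2e1404640010464))
 (.node (nat_lit 2498) (.leaf (nat_lit 2497) (nat_lit 0x2e1004600010460))
 (.leaf (nat_lit 2498) (nat_lit 0x2fc105260010526))
)))) (.node (nat_lit 2516) (.node (nat_lit 2509) (.node (nat_lit 2508) (.leaf (nat_lit 2499) (nat_lit 0x261005200010520))
 (.leaf (nat_lit 2508) (nat_lit 0x1c0005040010504))
) (.node (nat_lit 2510) (.leaf (nat_lit 2509) (nat_lit 0x2f7705000010500))
 (.node (nat_lit 2511) (.leaf (nat_lit 2510) (nat_lit 0x277704400010440))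
 (.leaf (nat_lit 2511) (nat_lit 0x1dd704440010444))
))) (.node (nat_lit 2519) (.node (nat_lit 2517) (.leaf (nat_lit 2516) (nat_lit 0xdd304040010404))
 (.node (nat_lit 2518) (.leaf (nat_lit 2517) (nat_lit 0x40004000010400))
 (.leaf (nat_lit 2518) (nat_lit 0x5d30c040010c04))
)) (.node (nat_lit 2520) (.leaf (nat_lit 2519) (nat_lit 0xc000c000010c00))
 (.node (nat_lit 2521) (.leaf (nat_lit 2520) (nat_lit 0x5630c270010c27))
 (.leaf (nat_lit 2521) (nat_lit 0x5670c200010c20))
))))))) (.node (nat_lit 4465) (.node (nat_lit 4293) (.node (nat_lit 4112) (.node (nat_lit 4101) (.node (nat_lit 4096) (.node (nat_lit 2523) (.leaf (nat_lit 2522) (nat_lit 0x42304200010420))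
 (.leaf (nat_lit 2523) (nat_lit 0x4b004270010427))
) (.node (nat_lit 4097) (.leaf (nat_lit 4096) (nat_lit 0xa80040000008000))
 (.node (nat_lit 4100) (.leaf (nat_lit 4097) (nat_lit 0xa81040040008002))
 (.leaf (nat_lit 4100) (nat_lit 0xa1d5414600080c0))
))) (.node (nat_lit 4107) (.node (nat_lit 4106) (.leaf (nat_lit 4101) (nat_lit 0xa9d5414000080c2))
 (.leaf (nat_lit 4106) (nat_lit 0xa98a41a40008080))
) (.node (nat_lit 4110) (.leaf (nat_lit 4107) (nat_lit 0x492041a00008082))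
 (.node (nat_lit 4111) (.leaf (nat_lit 4110) (nat_lit 0x48fb40660008040))
 (.leaf (nat_lit 4111) (nat_lit 0xa85a40620008042))
)))) (.node (nat_lit 4123) (.node (nat_lit 4116) (.node (nat_lit 4113) (.leaf (nat_lit 4112) (nat_lit 0x41ec41e50008140))
 (.leaf (nat_lit 4113) (nat_lit 0xa97d41650008143))
) (.node (nat_lit 4117) (.leaf (nat_lit 4116) (nat_lit 0xa8a140200008020))
 (.node (nat_lit 4122) (.leaf (nat_lit 4117) (nat_lit 0xa8b240240008022))
 (.leaf (nat_lit 4122) (nat_lit 0xa8fb40440008060))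
))) (.node (nat_lit 4288) (.node (nat_lit 4126) (.leaf (nat_lit 4123) (nat_lit 0xa0fb40400008062))
 (.node (nat_lit 4127) (.leaf (nat_lit 4126) (nat_lit 0xa93b41000008102))
 (.leaf (nat_lit 4127) (nat_lit 0xa92041060008100))
)) (.node (nat_lit 4289) (.leaf (nat_lit 4288) (nat_lit 0xaf2e45380008502))
 (.node (nat_lit 4292) (.leaf (nat_lit 4289) (nat_lit 0xaf36453e0008500))
 (.leaf (nat_lit 4292) (nat_lit 0xaefb44650008c00))
))))) (.node (nat_lit 4316) (.node (nat_lit 4306) (.node (nat_lit 4299) (.node (nat_lit 4298) (.leaf (nat_lit 4293) (nat_lit 0xaefd447f0008c02))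
 (.leaf (nat_lit 4298) (nat_lit 0xaf7764040008542))
) (.node (nat_lit 4302) (.leaf (nat_lit 4299) (nat_lit 0x45d764000009420))
 (.node (nat_lit 4303) (.leaf (nat_lit 4302) (nat_lit 0xaeb244040008427))
 (.leaf (nat_lit 4303) (nat_lit 0xaea144000008420))
))) (.node (nat_lit 4311) (.node (nat_lit 4307) (.leaf (nat_lit 4306) (nat_lit 0xae4e44400008442))
 (.node (nat_lit 4310) (.leaf (nat_lit 4307) (nat_lit 0x4c0044440008440))
 (.leaf (nat_lit 4310) (nat_lit 0x4dd745040008487))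
)) (.node (nat_lit 4312) (.leaf (nat_lit 4311) (nat_lit 0xa77745000008480))
 (.node (nat_lit 4313) (.leaf (nat_lit 4312) (nat_lit 0xae00443e0008400))
 (.leaf (nat_lit 4313) (nat_lit 0xae10443a0008402))
)))) (.node (nat_lit 4455) (.node (nat_lit 4450) (.node (nat_lit 4317) (.leaf (nat_lit 4316) (nat_lit 0xafd9456a0009402))
 (.leaf (nat_lit 4317) (nat_lit 0xafc1456e0009400))
) (.node (nat_lit 4451) (.leaf (nat_lit 4450) (nat_lit 0xacb147490008226))
 (.node (nat_lit 4454) (.leaf (nat_lit 4451) (nat_lit 0x4efb474e0008220))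
 (.leaf (nat_lit 4454) (nat_lit 0xad7546040008343))
))) (.node (nat_lit 4462) (.node (nat_lit 4458) (.leaf (nat_lit 4455) (nat_lit 0xa4f746000009220))
 (.node (nat_lit 4459) (.leaf (nat_lit 4458) (nat_lit 0xad38466b0008302))
 (.leaf (nat_lit 4459) (nat_lit 0xad28466d0008300))
)) (.node (nat_lit 4463) (.leaf (nat_lit 4462) (nat_lit 0xa575472b0008260))
 (.node (nat_lit 4464) (.leaf (nat_lit 4463) (nat_lit 0xacf7472f0008267))
 (.leaf (nat_lit 4464) (nat_lit 0xac00476f0008200))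
)))))) (.node (nat_lit 4540) (.node (nat_lit 4517) (.node (nat_lit 4476) (.node (nat_lit 4469) (.node (nat_lit 4468) (.leaf (nat_lit 4465) (nat_lit 0xa58a476b0008202))
 (.leaf (nat_lit 4468) (nat_lit 0xadd146380009202))
) (.node (nat_lit 4472) (.leaf (nat_lit 4469) (nat_lit 0xadd7463c0009200))
 (.node (nat_lit 4473) (.leaf (nat_lit 4472) (nat_lit 0xa40046cf0008286))
 (.leaf (nat_lit 4473) (nat_lit 0xad8a46c90008280))
))) (.node (nat_lit 4512) (.node (nat_lit 4477) (.leaf (nat_lit 4476) (nat_lit 0xa5d784000008242))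
 (.leaf (nat_lit 4477) (nat_lit 0xac4247080008240))
) (.node (nat_lit 4513) (.leaf (nat_lit 4512) (nat_lit 0xa2f942610008686))
 (.node (nat_lit 4516) (.leaf (nat_lit 4513) (nat_lit 0xa2f742650008680))
 (.leaf (nat_lit 4516) (nat_lit 0xa32843a10008642))
)))) (.node (nat_lit 4528) (.node (nat_lit 4521) (.node (nat_lit 4520) (.leaf (nat_lit 4517) (nat_lit 0xa32e43a50008640))
 (.leaf (nat_lit 4520) (nat_lit 0xabc0420000096de))
) (.node (nat_lit 4524) (.leaf (nat_lit 4521) (nat_lit 0x8bc0420400096dc))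
 (.node (nat_lit 4525) (.leaf (nat_lit 4524) (nat_lit 0xa37543500008602))
 (.leaf (nat_lit 4525) (nat_lit 0xaa0a43540008600))
))) (.node (nat_lit 4533) (.node (nat_lit 4529) (.leaf (nat_lit 4528) (nat_lit 0xab2842440008700))
 (.node (nat_lit 4532) (.leaf (nat_lit 4529) (nat_lit 0xab2e42400008707))
 (.leaf (nat_lit 4532) (nat_lit 0xaaf743000008e95))
)) (.node (nat_lit 4536) (.leaf (nat_lit 4533) (nat_lit 0xaaf943050008e97))
 (.node (nat_lit 4537) (.leaf (nat_lit 4536) (nat_lit 0xab7542260008e02))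
 (.leaf (nat_lit 4537) (nat_lit 0xa20942200008e00))
))))) (.node (nat_lit 6163) (.node (nat_lit 6151) (.node (nat_lit 6144) (.node (nat_lit 4541) (.leaf (nat_lit 4540) (nat_lit 0x63754a040008626))
 (.leaf (nat_lit 4541) (nat_lit 0xa3c04a000008620))
) (.node (nat_lit 6145) (.leaf (nat_lit 6144) (nat_lit 0x90005000000a000))
 (.node (nat_lit 6150) (.leaf (nat_lit 6145) (nat_lit 0xb8905004000a002))
 (.leaf (nat_lit 6150) (nat_lit 0x91d75146000a0c0))
))) (.node (nat_lit 6156) (.node (nat_lit 6154) (.leaf (nat_lit 6151) (nat_lit 0x99d75140000a165))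
 (.node (nat_lit 6155) (.leaf (nat_lit 6154) (nat_lit 0x793951a4000a080))
 (.leaf (nat_lit 6155) (nat_lit 0x991351a0000a082))
)) (.node (nat_lit 6157) (.leaf (nat_lit 6156) (nat_lit 0x98c45066000a040))
 (.node (nat_lit 6162) (.leaf (nat_lit 6157) (nat_lit 0x90c45062000a042))
 (.leaf (nat_lit 6162) (nat_lit 0x98e75046000a060))
)))) (.node (nat_lit 6174) (.node (nat_lit 6165) (.node (nat_lit 6164) (.leaf (nat_lit 6163) (nat_lit 0x98e05040000a062))
 (.leaf (nat_lit 6164) (nat_lit 0x99305100000a102))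
) (.node (nat_lit 6168) (.leaf (nat_lit 6165) (nat_lit 0x99375106000a100))
 (.node (nat_lit 6169) (.leaf (nat_lit 6168) (nat_lit 0x91f051e5000a140))
 (.leaf (nat_lit 6169) (nat_lit 0x99f05165000a143))
))) (.node (nat_lit 6369) (.node (nat_lit 6175) (.leaf (nat_lit 6174) (nat_lit 0x98205020000a020))
 (.node (nat_lit 6368) (.leaf (nat_lit 6175) (nat_lit 0x90265024000a022))
 (.leaf (nat_lit 6368) (nat_lit 0x96145538000a502))
)) (.node (nat_lit 6374) (.leaf (nat_lit 6369) (nat_lit 0x9610553e000a500))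
 (.node (nat_lit 6375) (.leaf (nat_lit 6374) (nat_lit 0x97c154fe000ac00))
 (.leaf (nat_lit 6375) (nat_lit 0xbe10547f000a463))
)))))))) (.node (nat_lit 9010) (.node (nat_lit 6655) (.node (nat_lit 6419) (.node (nat_lit 6396) (.node (nat_lit 6385) (.node (nat_lit 6380) (.node (nat_lit 6379) (.leaf (nat_lit 6378) (nat_lit 0x9e307c04000a542))
 (.leaf (nat_lit 6379) (nat_lit 0x9e347c00000b420))
) (.node (nat_lit 6381) (.leaf (nat_lit 6380) (nat_lit 0x9fe65404000a427))
 (.node (nat_lit 6384) (.leaf (nat_lit 6381) (nat_lit 0x9fe25400000a420))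
 (.leaf (nat_lit 6384) (nat_lit 0x9fc1543e000a400))
))) (.node (nat_lit 6391) (.node (nat_lit 6390) (.leaf (nat_lit 6385) (nat_lit 0x9fc7543a000a402))
 (.leaf (nat_lit 6390) (nat_lit 0x9e10556a000b402))
) (.node (nat_lit 6394) (.leaf (nat_lit 6391) (nat_lit 0x9e14556e000b400))
 (.node (nat_lit 6395) (.leaf (nat_lit 6394) (nat_lit 0x97e45440000a442))
 (.leaf (nat_lit 6395) (nat_lit 0x97e25444000a440))
)))) (.node (nat_lit 6405) (.node (nat_lit 6402) (.node (nat_lit 6397) (.leaf (nat_lit 6396) (nat_lit 0x96345504000a487))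
 (.leaf (nat_lit 6397) (nat_lit 0x96305500000a480))
) (.node (nat_lit 6403) (.leaf (nat_lit 6402) (nat_lit 0x9ad053ad000a7f9))
 (.node (nat_lit 6404) (.leaf (nat_lit 6403) (nat_lit 0x932053ab000a7ff))
 (.leaf (nat_lit 6404) (nat_lit 0x9b0152ea000a69e))
))) (.node (nat_lit 6412) (.node (nat_lit 6410) (.leaf (nat_lit 6405) (nat_lit 0x9b055261000a69c))
 (.node (nat_lit 6411) (.leaf (nat_lit 6410) (nat_lit 0x93e65354000a600))
 (.leaf (nat_lit 6411) (nat_lit 0x9a1553ca000a7b9))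
)) (.node (nat_lit 6413) (.leaf (nat_lit 6412) (nat_lit 0x9bc05204000af99))
 (.node (nat_lit 6418) (.leaf (nat_lit 6413) (nat_lit 0x92325200000bf99))
 (.leaf (nat_lit 6418) (nat_lit 0xbbc053ef000a79b))
))))) (.node (nat_lit 6634) (.node (nat_lit 6428) (.node (nat_lit 6421) (.node (nat_lit 6420) (.leaf (nat_lit 6419) (nat_lit 0x93c053eb000a799))
 (.leaf (nat_lit 6420) (nat_lit 0x9be65220000bfb9))
) (.node (nat_lit 6426) (.leaf (nat_lit 6421) (nat_lit 0x92155226000afb9))
 (.node (nat_lit 6427) (.leaf (nat_lit 6426) (nat_lit 0x9af25305000a7d9))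
 (.leaf (nat_lit 6427) (nat_lit 0x93005300000a7db))
))) (.node (nat_lit 6627) (.node (nat_lit 6429) (.leaf (nat_lit 6428) (nat_lit 0x7a495240000a718))
 (.node (nat_lit 6626) (.leaf (nat_lit 6429) (nat_lit 0x9b205247000a71a))
 (.leaf (nat_lit 6626) (nat_lit 0x9c255604000a2ee))
)) (.node (nat_lit 6628) (.leaf (nat_lit 6627) (nat_lit 0x9c215600000a2ec))
 (.node (nat_lit 6629) (.leaf (nat_lit 6628) (nat_lit 0x9df35749000a226))
 (.leaf (nat_lit 6629) (nat_lit 0x9df5574e000a220))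
)))) (.node (nat_lit 6641) (.node (nat_lit 6636) (.node (nat_lit 6635) (.leaf (nat_lit 6634) (nat_lit 0x9425572b000a265))
 (.leaf (nat_lit 6635) (nat_lit 0x9423572f000a267))
) (.node (nat_lit 6637) (.leaf (nat_lit 6636) (nat_lit 0x95f556fb000a2ad))
 (.node (nat_lit 6640) (.leaf (nat_lit 6637) (nat_lit 0x95f356ff000a2af))
 (.leaf (nat_lit 6640) (nat_lit 0x94009400000ba00))
))) (.node (nat_lit 6648) (.node (nat_lit 6646) (.leaf (nat_lit 6641) (nat_lit 0xbd425708000a240))
 (.node (nat_lit 6647) (.leaf (nat_lit 6646) (nat_lit 0x95d756da000a28c))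
 (.leaf (nat_lit 6647) (nat_lit 0x95d356c9000a280))
)) (.node (nat_lit 6649) (.leaf (nat_lit 6648) (nat_lit 0x9c0456bb000b202))
 (.node (nat_lit 6654) (.leaf (nat_lit 6649) (nat_lit 0x9c00563c000b200))
 (.leaf (nat_lit 6654) (nat_lit 0x9dd7576f000a200))
)))))) (.node (nat_lit 8328) (.node (nat_lit 8225) (.node (nat_lit 8200) (.node (nat_lit 8193) (.node (nat_lit 8192) (.leaf (nat_lit 6655) (nat_lit 0x9dd3576b000a202))
 (.leaf (nat_lit 8192) (nat_lit 0x1980000000080000))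
) (.node (nat_lit 8194) (.leaf (nat_lit 8193) (nat_lit 0x199d300200080020))
 (.node (nat_lit 8195) (.leaf (nat_lit 8194) (nat_lit 0x1980600040080004))
 (.leaf (nat_lit 8195) (nat_lit 0x199d500240080024))
))) (.node (nat_lit 8202) (.node (nat_lit 8201) (.leaf (nat_lit 8200) (nat_lit 0x19a5700100080010))
 (.leaf (nat_lit 8201) (nat_lit 0x19b8100300080030))
) (.node (nat_lit 8203) (.leaf (nat_lit 8202) (nat_lit 0x19a5000140080014))
 (.node (nat_lit 8224) (.leaf (nat_lit 8203) (nat_lit 0x19b9903050080305))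
 (.leaf (nat_lit 8224) (nat_lit 0x186fb00600080060))
)))) (.node (nat_lit 8234) (.node (nat_lit 8227) (.node (nat_lit 8226) (.leaf (nat_lit 8225) (nat_lit 0x19d6600400080040))
 (.leaf (nat_lit 8226) (nat_lit 0x19cb100640080064))
) (.node (nat_lit 8232) (.leaf (nat_lit 8227) (nat_lit 0x1873600440080044))
 (.node (nat_lit 8233) (.leaf (nat_lit 8232) (nat_lit 0x19efd00700080070))
 (.leaf (nat_lit 8233) (nat_lit 0x19f3600500080050))
))) (.node (nat_lit 8321) (.node (nat_lit 8235) (.leaf (nat_lit 8234) (nat_lit 0x19efb08600080860))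
 (.node (nat_lit 8320) (.leaf (nat_lit 8235) (nat_lit 0x19f2e08400080840))
 (.leaf (nat_lit 8320) (nat_lit 0x180a101440090144))
)) (.node (nat_lit 8322) (.leaf (nat_lit 8321) (nat_lit 0x1996701670090167))
 (.node (nat_lit 8323) (.leaf (nat_lit 8322) (nat_lit 0x198b201400090140))
 (.leaf (nat_lit 8323) (nat_lit 0x1997d02500090250))
))))) (.node (nat_lit 8367) (.node (nat_lit 8357) (.node (nat_lit 8330) (.node (nat_lit 8329) (.leaf (nat_lit 8328) (nat_lit 0x19b2e02400090240))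
 (.leaf (nat_lit 8329) (nat_lit 0x19af902600090260))
) (.node (nat_lit 8331) (.leaf (nat_lit 8330) (nat_lit 0x19b2802440090244))
 (.node (nat_lit 8356) (.leaf (nat_lit 8331) (nat_lit 0x182f701500090150))
 (.leaf (nat_lit 8356) (nat_lit 0x19dd101000090100))
))) (.node (nat_lit 8364) (.node (nat_lit 8358) (.leaf (nat_lit 8357) (nat_lit 0x19c0002100090210))
 (.node (nat_lit 8359) (.leaf (nat_lit 8358) (nat_lit 0x19dd701040090104))
 (.leaf (nat_lit 8359) (nat_lit 0x19c1a01260090126))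
)) (.node (nat_lit 8365) (.leaf (nat_lit 8364) (nat_lit 0x19e4e02040090204))
 (.node (nat_lit 8366) (.leaf (nat_lit 8365) (nat_lit 0x185d701100090110))
 (.leaf (nat_lit 8366) (nat_lit 0x1840002000090200))
)))) (.node (nat_lit 8988) (.node (nat_lit 8977) (.node (nat_lit 8976) (.leaf (nat_lit 8367) (nat_lit 0x185d102200090220))
 (.leaf (nat_lit 8976) (nat_lit 0x19e100c040080c04))
) (.node (nat_lit 8978) (.leaf (nat_lit 8977) (nat_lit 0x19fc106400080640))
 (.node (nat_lit 8979) (.leaf (nat_lit 8978) (nat_lit 0x184f70c000080c00))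
 (.leaf (nat_lit 8979) (nat_lit 0x19fd90c200080c20))
))) (.node (nat_lit 8991) (.node (nat_lit 8989) (.leaf (nat_lit 8988) (nat_lit 0x186a105470080547))
 (.node (nat_lit 8990) (.leaf (nat_lit 8989) (nat_lit 0x19d8c06550080655))
 (.leaf (nat_lit 8990) (nat_lit 0x19c420c100080c10))
)) (.node (nat_lit 9008) (.leaf (nat_lit 8991) (nat_lit 0x19d8a0c300080c30))
 (.node (nat_lit 9009) (.leaf (nat_lit 9008) (nat_lit 0x1820a06000080600))
 (.leaf (nat_lit 9009) (nat_lit 0x18bc006200080620))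
))))))) (.node (nat_lit 10377) (.node (nat_lit 9151) (.node (nat_lit 9112) (.node (nat_lit 9023) (.node (nat_lit 9020) (.node (nat_lit 9011) (.leaf (nat_lit 9010) (nat_lit 0xcb7506040080604))
 (.leaf (nat_lit 9011) (nat_lit 0x19b7505100080510))
) (.node (nat_lit 9021) (.leaf (nat_lit 9020) (nat_lit 0x198ea05260080526))
 (.node (nat_lit 9022) (.leaf (nat_lit 9021) (nat_lit 0x1992005040080504))
 (.leaf (nat_lit 9022) (nat_lit 0x198f006100080610))
))) (.node (nat_lit 9109) (.node (nat_lit 9108) (.leaf (nat_lit 9023) (nat_lit 0x1993b05000080500))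
 (.leaf (nat_lit 9108) (nat_lit 0xcc0004370090437))
) (.node (nat_lit 9110) (.leaf (nat_lit 9109) (nat_lit 0x19ea104140090414))
 (.node (nat_lit 9111) (.leaf (nat_lit 9110) (nat_lit 0x19f7704300090430))
 (.leaf (nat_lit 9111) (nat_lit 0x19ea704100090410))
)))) (.node (nat_lit 9137) (.node (nat_lit 9114) (.node (nat_lit 9113) (.leaf (nat_lit 9112) (nat_lit 0x1861004040090404))
 (.leaf (nat_lit 9113) (nat_lit 0x19d3804270090427))
) (.node (nat_lit 9115) (.leaf (nat_lit 9114) (nat_lit 0x19cf704000090400))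
 (.node (nat_lit 9136) (.leaf (nat_lit 9115) (nat_lit 0x187d904200090420))
 (.leaf (nat_lit 9136) (nat_lit 0x19a130e040090e04))
))) (.node (nat_lit 9148) (.node (nat_lit 9138) (.leaf (nat_lit 9137) (nat_lit 0x19bc004500090450))
 (.node (nat_lit 9139) (.leaf (nat_lit 9138) (nat_lit 0x19a0a0e000090e00))
 (.leaf (nat_lit 9139) (nat_lit 0x193c004540090454))
)) (.node (nat_lit 9149) (.leaf (nat_lit 9148) (nat_lit 0x1998a04400090440))
 (.node (nat_lit 9150) (.leaf (nat_lit 9149) (nat_lit 0x180fb04600090460))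
 (.leaf (nat_lit 9150) (nat_lit 0x1812004440090444))
))))) (.node (nat_lit 10294) (.node (nat_lit 10248) (.node (nat_lit 10241) (.node (nat_lit 10240) (.leaf (nat_lit 9151) (nat_lit 0x1985a04640090464))
 (.leaf (nat_lit 10240) (nat_lit 0x1a000100000d1000))
) (.node (nat_lit 10242) (.leaf (nat_lit 10241) (nat_lit 0x1b9d1102000d1020))
 (.node (nat_lit 10243) (.leaf (nat_lit 10242) (nat_lit 0x1a1d5102400d1024))
 (.leaf (nat_lit 10243) (nat_lit 0x1b804100400d1004))
))) (.node (nat_lit 10251) (.node (nat_lit 10249) (.leaf (nat_lit 10248) (nat_lit 0x1a39e103000d1030))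
 (.node (nat_lit 10250) (.leaf (nat_lit 10249) (nat_lit 0x1ba49101000d1010))
 (.leaf (nat_lit 10250) (nat_lit 0x1ba4e101400d1014))
)) (.node (nat_lit 10292) (.leaf (nat_lit 10251) (nat_lit 0x1bb9a103400d1034))
 (.node (nat_lit 10293) (.leaf (nat_lit 10292) (nat_lit 0x1a6fb106000d1060))
 (.leaf (nat_lit 10293) (nat_lit 0x1bd64104000d1040))
)))) (.node (nat_lit 10303) (.node (nat_lit 10300) (.node (nat_lit 10295) (.leaf (nat_lit 10294) (nat_lit 0x1bd62104e00d104e))
 (.leaf (nat_lit 10295) (nat_lit 0x1bcb3106e00d106e))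
) (.node (nat_lit 10301) (.leaf (nat_lit 10300) (nat_lit 0x1a562105000d1050))
 (.node (nat_lit 10302) (.leaf (nat_lit 10301) (nat_lit 0x1a4b1107a00d107a))
 (.leaf (nat_lit 10302) (nat_lit 0x1a4b5107500d1075))
))) (.node (nat_lit 10370) (.node (nat_lit 10368) (.leaf (nat_lit 10303) (nat_lit 0x1a566105e00d105e))
 (.node (nat_lit 10369) (.leaf (nat_lit 10368) (nat_lit 0x1a328124c00c124c))
 (.leaf (nat_lit 10369) (nat_lit 0x1bafd115100c1151))
)) (.node (nat_lit 10371) (.leaf (nat_lit 10370) (nat_lit 0x1a2f9115f00c115f))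
 (.node (nat_lit 10376) (.leaf (nat_lit 10371) (nat_lit 0x1a32e124000c1240))
 (.leaf (nat_lit 10376) (nat_lit 0x1a163125000c1250))
)))))) (.node (nat_lit 10866) (.node (nat_lit 10427) (.node (nat_lit 10418) (.node (nat_lit 10379) (.node (nat_lit 10378) (.leaf (nat_lit 10377) (nat_lit 0x1a0b2114000c1140))
 (.leaf (nat_lit 10378) (nat_lit 0x1a0b6114c00c114c))
) (.node (nat_lit 10416) (.leaf (nat_lit 10379) (nat_lit 0x1a167125c00c125c))
 (.node (nat_lit 10417) (.leaf (nat_lit 10416) (nat_lit 0x1a400120000c1200))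
 (.leaf (nat_lit 10417) (nat_lit 0x1a5d3111f00c111f))
))) (.node (nat_lit 10424) (.node (nat_lit 10419) (.leaf (nat_lit 10418) (nat_lit 0x1a5d7111b00c111b))
 (.leaf (nat_lit 10419) (nat_lit 0x1ad42120400c1204))
) (.node (nat_lit 10425) (.leaf (nat_lit 10424) (nat_lit 0x1bc04112600c1126))
 (.node (nat_lit 10426) (.leaf (nat_lit 10425) (nat_lit 0x1bdd7110400c1104))
 (.leaf (nat_lit 10426) (nat_lit 0x1bdd3110000c1100))
)))) (.node (nat_lit 10824) (.node (nat_lit 10821) (.node (nat_lit 10820) (.leaf (nat_lit 10427) (nat_lit 0x1bc00121000c1210))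
 (.leaf (nat_lit 10820) (nat_lit 0x1a18a150000d1500))
) (.node (nat_lit 10822) (.leaf (nat_lit 10821) (nat_lit 0x1b8ef161000d1610))
 (.node (nat_lit 10823) (.leaf (nat_lit 10822) (nat_lit 0x1a05b169f00d169f))
 (.leaf (nat_lit 10823) (nat_lit 0x1b93e150400d1504))
))) (.node (nat_lit 10827) (.node (nat_lit 10825) (.leaf (nat_lit 10824) (nat_lit 0x1a213160400d1604))
 (.node (nat_lit 10826) (.leaf (nat_lit 10825) (nat_lit 0x1a3c0151b00d151b))
 (.leaf (nat_lit 10826) (nat_lit 0x1a3c434dd00d34dd))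
)) (.node (nat_lit 10864) (.leaf (nat_lit 10827) (nat_lit 0x1a217160000d1600))
 (.node (nat_lit 10865) (.leaf (nat_lit 10864) (nat_lit 0x1a6a615c400d15c4))
 (.leaf (nat_lit 10865) (nat_lit 0x1a77716de00d16de))
))))) (.node (nat_lit 10953) (.node (nat_lit 10879) (.node (nat_lit 10876) (.node (nat_lit 10867) (.leaf (nat_lit 10866) (nat_lit 0x1bd8e16da00d16da))
 (.leaf (nat_lit 10867) (nat_lit 0x1a6a215c000d15c0))
) (.node (nat_lit 10877) (.leaf (nat_lit 10876) (nat_lit 0x1bfc5340400d3404))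
 (.node (nat_lit 10878) (.leaf (nat_lit 10877) (nat_lit 0x1be141c0000d1c00))
 (.leaf (nat_lit 10878) (nat_lit 0x1be1015db00d15db))
))) (.node (nat_lit 10950) (.node (nat_lit 10948) (.leaf (nat_lit 10879) (nat_lit 0x1bfc1340000d3400))
 (.node (nat_lit 10949) (.leaf (nat_lit 10948) (nat_lit 0x1bbc414d900c14d9))
 (.leaf (nat_lit 10949) (nat_lit 0x1a2a214f900c14f9))
)) (.node (nat_lit 10951) (.leaf (nat_lit 10950) (nat_lit 0x1ba1314fd00c14fd))
 (.node (nat_lit 10952) (.leaf (nat_lit 10951) (nat_lit 0x1a37514dd00c14dd))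
 (.leaf (nat_lit 10952) (nat_lit 0x1b98d144400c1444))
)))) (.node (nat_lit 10998) (.node (nat_lit 10955) (.node (nat_lit 10954) (.leaf (nat_lit 10953) (nat_lit 0x1b85b14e900c14e9))
 (.leaf (nat_lit 10954) (nat_lit 0x1a0ec14ef00c14ef))
) (.node (nat_lit 10996) (.leaf (nat_lit 10955) (nat_lit 0x1b98a14cd00c14cd))
 (.node (nat_lit 10997) (.leaf (nat_lit 10996) (nat_lit 0x1bf77143000c1430))
 (.leaf (nat_lit 10997) (nat_lit 0x1bea4141000c1410))
))) (.node (nat_lit 11001) (.node (nat_lit 10999) (.leaf (nat_lit 10998) (nat_lit 0x1bea2149c00c149c))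
 (.node (nat_lit 11000) (.leaf (nat_lit 10999) (nat_lit 0x1a58e143400c1434))
 (.leaf (nat_lit 11000) (nat_lit 0x1a7c5142000c1420))
)) (.node (nat_lit 11002) (.leaf (nat_lit 11001) (nat_lit 0x1a614140000c1400))
 (.node (nat_lit 11003) (.leaf (nat_lit 11002) (nat_lit 0x1a610140400c1404))
 (.leaf (nat_lit 11003) (nat_lit 0x1a7c1142700c1427))
))))))))))

/-- The involutions of the Sylow subgroup, with conjugating elements. -/
noncomputable def It1 : ST :=
(.node (nat_lit 1944) (.node (nat_lit 1004) (.node (nat_lit 518) (.node (nat_lit 139) (.node (nat_lit 22) (.node (nat_lit 11) (.node (nat_lit 6) (.node (nat_lit 3) (.node (nat_lit 2) (.leaf (nat_lit 1) (nat_lit 0))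
 (.leaf (nat_lit 2) (nat_lit 0x2400000004000000))
) (.node (nat_lit 4) (.leaf (nat_lit 3) (nat_lit 0x1a00010004001000))
 (.node (nat_lit 5) (.leaf (nat_lit 4) (nat_lit 0x1000040002000000))
 (.leaf (nat_lit 5) (nat_lit 0x1080048072000800))
))) (.node (nat_lit 8) (.node (nat_lit 7) (.leaf (nat_lit 6) (nat_lit 0x2880050042002000))
 (.leaf (nat_lit 7) (nat_lit 0x2980058022002800))
) (.node (nat_lit 9) (.leaf (nat_lit 8) (nat_lit 0x400000))
 (.node (nat_lit 10) (.leaf (nat_lit 9) (nat_lit 0x9d501000400100))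
 (.leaf (nat_lit 10) (nat_lit 0x3c003000400300))
)))) (.node (nat_lit 16) (.node (nat_lit 13) (.node (nat_lit 12) (.leaf (nat_lit 11) (nat_lit 0x21402000400200))
 (.leaf (nat_lit 12) (nat_lit 0xc0005000400500))
) (.node (nat_lit 14) (.leaf (nat_lit 13) (nat_lit 0x40004000400400))
 (.node (nat_lit 15) (.leaf (nat_lit 14) (nat_lit 0x61406000400600))
 (.leaf (nat_lit 15) (nat_lit 0x7c024000402400))
))) (.node (nat_lit 19) (.node (nat_lit 17) (.leaf (nat_lit 16) (nat_lit 0xa00040000200000))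
 (.node (nat_lit 18) (.leaf (nat_lit 17) (nat_lit 0xa80041000200080))
 (.leaf (nat_lit 18) (nat_lit 0xae0045000200480))
)) (.node (nat_lit 20) (.leaf (nat_lit 19) (nat_lit 0xa6fb44000200400))
 (.node (nat_lit 21) (.leaf (nat_lit 20) (nat_lit 0xab7543000200600))
 (.leaf (nat_lit 21) (nat_lit 0xaaf742000200680))
))))) (.node (nat_lit 128) (.node (nat_lit 27) (.node (nat_lit 24) (.node (nat_lit 23) (.leaf (nat_lit 22) (nat_lit 0xacf7466b0200280))
 (.leaf (nat_lit 23) (nat_lit 0xadd7476f0200200))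
) (.node (nat_lit 25) (.leaf (nat_lit 24) (nat_lit 0x900050040202000))
 (.node (nat_lit 26) (.leaf (nat_lit 25) (nat_lit 0x980051040202080))
 (.leaf (nat_lit 26) (nat_lit 0x961455040202480))
))) (.node (nat_lit 29) (.node (nat_lit 28) (.leaf (nat_lit 27) (nat_lit 0x97c154040202400))
 (.leaf (nat_lit 28) (nat_lit 0x95d756ff02022ad))
) (.node (nat_lit 30) (.leaf (nat_lit 29) (nat_lit 0x9400576b0202200))
 (.node (nat_lit 31) (.leaf (nat_lit 30) (nat_lit 0x93c053ef0202799))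
 (.leaf (nat_lit 31) (nat_lit 0x9a3452040202718))
)))) (.node (nat_lit 133) (.node (nat_lit 130) (.node (nat_lit 129) (.leaf (nat_lit 128) (nat_lit 0x19b7500000040000))
 (.leaf (nat_lit 129) (nat_lit 0x1992000100040010))
) (.node (nat_lit 131) (.leaf (nat_lit 130) (nat_lit 0x19a0a00200040020))
 (.node (nat_lit 132) (.leaf (nat_lit 131) (nat_lit 0x1980000300040030))
 (.leaf (nat_lit 132) (nat_lit 0x19cf700500040050))
))) (.node (nat_lit 136) (.node (nat_lit 134) (.leaf (nat_lit 133) (nat_lit 0x19efb00400040040))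
 (.node (nat_lit 135) (.leaf (nat_lit 134) (nat_lit 0x19dd702000040200))
 (.leaf (nat_lit 135) (nat_lit 0x185d704000040400))
)) (.node (nat_lit 137) (.leaf (nat_lit 136) (nat_lit 0x1a00010340041034))
 (.node (nat_lit 138) (.leaf (nat_lit 137) (nat_lit 0x1a2a210200041020))
 (.leaf (nat_lit 138) (nat_lit 0x1a37510000041000))
)))))) (.node (nat_lit 416) (.node (nat_lit 261) (.node (nat_lit 256) (.node (nat_lit 141) (.node (nat_lit 140) (.leaf (nat_lit 139) (nat_lit 0x1a1d510100041010))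
 (.leaf (nat_lit 140) (nat_lit 0x1a5d714000041400))
) (.node (nat_lit 142) (.leaf (nat_lit 141) (nat_lit 0x1bdd712000041200))
 (.node (nat_lit 143) (.leaf (nat_lit 142) (nat_lit 0x1a6a2111f004111f))
 (.leaf (nat_lit 143) (nat_lit 0x1a40010400041040))
))) (.node (nat_lit 258) (.node (nat_lit 257) (.leaf (nat_lit 256) (nat_lit 0x21f7750440020000))
 (.leaf (nat_lit 257) (nat_lit 0x21dd7543a0020008))
) (.node (nat_lit 259) (.leaf (nat_lit 258) (nat_lit 0x219d550140020400))
 (.node (nat_lit 260) (.leaf (nat_lit 259) (nat_lit 0x21b7550040020040))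
 (.leaf (nat_lit 260) (nat_lit 0x21800576b0020088))
)))) (.node (nat_lit 282) (.node (nat_lit 263) (.node (nat_lit 262) (.leaf (nat_lit 261) (nat_lit 0x21af950240020080))
 (.leaf (nat_lit 262) (nat_lit 0x21efb54040020020))
) (.node (nat_lit 280) (.leaf (nat_lit 263) (nat_lit 0x21c0052040020028))
 (.node (nat_lit 281) (.leaf (nat_lit 280) (nat_lit 0x214005a020021020))
 (.leaf (nat_lit 281) (nat_lit 0x216a172070020820))
))) (.node (nat_lit 285) (.node (nat_lit 283) (.leaf (nat_lit 282) (nat_lit 0x212a158220020880))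
 (.node (nat_lit 284) (.leaf (nat_lit 283) (nat_lit 0x210005836002108a))
 (.leaf (nat_lit 284) (nat_lit 0x211d558120020c00))
)) (.node (nat_lit 286) (.leaf (nat_lit 285) (nat_lit 0x2137558020020840))
 (.node (nat_lit 287) (.leaf (nat_lit 286) (nat_lit 0x2177758420020800))
 (.leaf (nat_lit 287) (nat_lit 0x215d770470021000))
))))) (.node (nat_lit 435) (.node (nat_lit 421) (.node (nat_lit 418) (.node (nat_lit 417) (.leaf (nat_lit 416) (nat_lit 0x1021340200022080))
 (.leaf (nat_lit 417) (nat_lit 0x101d5476f0022088))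
) (.node (nat_lit 419) (.leaf (nat_lit 418) (nat_lit 0x107c1420000222ad))
 (.node (nat_lit 420) (.leaf (nat_lit 419) (nat_lit 0x1040044000022020))
 (.leaf (nat_lit 420) (nat_lit 0x103c040000022040))
))) (.node (nat_lit 432) (.node (nat_lit 422) (.leaf (nat_lit 421) (nat_lit 0x1000040100022400))
 (.node (nat_lit 423) (.leaf (nat_lit 422) (nat_lit 0x10610443e0022008))
 (.leaf (nat_lit 423) (nat_lit 0x105d740400022000))
)) (.node (nat_lit 433) (.leaf (nat_lit 432) (nat_lit 0x10bc048070022840))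
 (.node (nat_lit 434) (.leaf (nat_lit 433) (nat_lit 0x1080048170022c00))
 (.leaf (nat_lit 434) (nat_lit 0x10e1449180023001))
)))) (.node (nat_lit 512) (.node (nat_lit 437) (.node (nat_lit 436) (.leaf (nat_lit 435) (nat_lit 0x10dd748470022800))
 (.leaf (nat_lit 436) (nat_lit 0x109d548330022877))
) (.node (nat_lit 438) (.leaf (nat_lit 437) (nat_lit 0x10a1748270022880))
 (.node (nat_lit 439) (.leaf (nat_lit 438) (nat_lit 0x10c004c070022820))
 (.leaf (nat_lit 439) (nat_lit 0x10fc14a070023021))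
))) (.node (nat_lit 515) (.node (nat_lit 513) (.leaf (nat_lit 512) (nat_lit 0xc0000))
 (.node (nat_lit 514) (.leaf (nat_lit 513) (nat_lit 0x34dd7004000c0040))
 (.leaf (nat_lit 514) (nat_lit 0x125d7004800c0048))
)) (.node (nat_lit 516) (.leaf (nat_lit 515) (nat_lit 0x255d7000800c0008))
 (.node (nat_lit 517) (.leaf (nat_lit 516) (nat_lit 0x235d7001800c0018))
 (.leaf (nat_lit 517) (nat_lit 0x5d7010000c0100))
))))))) (.node (nat_lit 825) (.node (nat_lit 659) (.node (nat_lit 576) (.node (nat_lit 563) (.node (nat_lit 560) (.node (nat_lit 519) (.leaf (nat_lit 518) (nat_lit 0x25614002000c0020))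
 (.leaf (nat_lit 519) (nat_lit 0x614001000c0010))
) (.node (nat_lit 561) (.leaf (nat_lit 560) (nat_lit 0x43375281000c2810))
 (.node (nat_lit 562) (.leaf (nat_lit 561) (nat_lit 0x525d7282000c2820))
 (.leaf (nat_lit 562) (nat_lit 0x2b75290000c2900))
))) (.node (nat_lit 565) (.node (nat_lit 564) (.leaf (nat_lit 563) (nat_lit 0x430b2281900c2819))
 (.leaf (nat_lit 564) (nat_lit 0x43000280000c2800))
) (.node (nat_lit 566) (.leaf (nat_lit 565) (nat_lit 0x520c4284000c2840))
 (.node (nat_lit 567) (.leaf (nat_lit 566) (nat_lit 0x2bc029b300c29b3))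
 (.leaf (nat_lit 567) (nat_lit 0x433c0280800c2808))
)))) (.node (nat_lit 581) (.node (nat_lit 578) (.node (nat_lit 577) (.leaf (nat_lit 576) (nat_lit 0x2b5d700000100000))
 (.leaf (nat_lit 577) (nat_lit 0x2b00000400100040))
) (.node (nat_lit 579) (.leaf (nat_lit 578) (nat_lit 0x4780000480100048))
 (.node (nat_lit 580) (.leaf (nat_lit 579) (nat_lit 0x47efb00080100008))
 (.leaf (nat_lit 580) (nat_lit 0x2b37504000100400))
))) (.node (nat_lit 656) (.node (nat_lit 582) (.leaf (nat_lit 581) (nat_lit 0x47dd701080100108))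
 (.node (nat_lit 583) (.leaf (nat_lit 582) (nat_lit 0x47cf701000100100))
 (.leaf (nat_lit 583) (nat_lit 0x5323400100100010))
)) (.node (nat_lit 657) (.leaf (nat_lit 656) (nat_lit 0x245d7080800e0808))
 (.node (nat_lit 658) (.leaf (nat_lit 657) (nat_lit 0x12dd7084800e0848))
 (.leaf (nat_lit 658) (nat_lit 0x35dd7084000e0840))
))))) (.node (nat_lit 686) (.node (nat_lit 680) (.node (nat_lit 661) (.node (nat_lit 660) (.leaf (nat_lit 659) (nat_lit 0x800080000e0800))
 (.leaf (nat_lit 660) (nat_lit 0x24614082000e0820))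
) (.node (nat_lit 662) (.leaf (nat_lit 661) (nat_lit 0x12e81081000e0810))
 (.node (nat_lit 663) (.leaf (nat_lit 662) (nat_lit 0x35e39081800e0818))
 (.leaf (nat_lit 663) (nat_lit 0xdd7090000e0900))
))) (.node (nat_lit 683) (.node (nat_lit 681) (.leaf (nat_lit 680) (nat_lit 0x42efb201000e2010))
 (.node (nat_lit 682) (.leaf (nat_lit 681) (nat_lit 0x53dd7202000e2020))
 (.leaf (nat_lit 682) (nat_lit 0x25d7210000e2100))
)) (.node (nat_lit 684) (.leaf (nat_lit 683) (nat_lit 0x42d38201800e2018))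
 (.node (nat_lit 685) (.leaf (nat_lit 684) (nat_lit 0x539ec204000e2040))
 (.leaf (nat_lit 685) (nat_lit 0x42800200000e2000))
)))) (.node (nat_lit 715) (.node (nat_lit 712) (.node (nat_lit 687) (.leaf (nat_lit 686) (nat_lit 0x42bc0200800e2008))
 (.leaf (nat_lit 687) (nat_lit 0x23c2204800e2048))
) (.node (nat_lit 713) (.leaf (nat_lit 712) (nat_lit 0x46af908100160810))
 (.node (nat_lit 714) (.leaf (nat_lit 713) (nat_lit 0x46c0009000160900))
 (.leaf (nat_lit 714) (nat_lit 0x46dd7085d016085d))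
))) (.node (nat_lit 718) (.node (nat_lit 716) (.leaf (nat_lit 715) (nat_lit 0x46b750c000160c00))
 (.node (nat_lit 717) (.leaf (nat_lit 716) (nat_lit 0x4680020400162040))
 (.leaf (nat_lit 717) (nat_lit 0x46efb20000162000))
)) (.node (nat_lit 719) (.leaf (nat_lit 718) (nat_lit 0x46f7708000160800))
 (.node (nat_lit 824) (.leaf (nat_lit 719) (nat_lit 0x2a00008400160840))
 (.leaf (nat_lit 824) (nat_lit 0x251d7104e012104e))
)))))) (.node (nat_lit 886) (.node (nat_lit 851) (.node (nat_lit 830) (.node (nat_lit 827) (.node (nat_lit 826) (.leaf (nat_lit 825) (nat_lit 0x2540010080121008))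
 (.leaf (nat_lit 826) (nat_lit 0x2500010400121040))
) (.node (nat_lit 828) (.leaf (nat_lit 827) (nat_lit 0x255d710000121000))
 (.node (nat_lit 829) (.leaf (nat_lit 828) (nat_lit 0x257c011000121100))
 (.leaf (nat_lit 829) (nat_lit 0x2521410100121010))
))) (.node (nat_lit 848) (.node (nat_lit 831) (.leaf (nat_lit 830) (nat_lit 0x2561411080121108))
 (.leaf (nat_lit 831) (nat_lit 0x253c014000121400))
) (.node (nat_lit 849) (.leaf (nat_lit 848) (nat_lit 0x483c030110083011))
 (.node (nat_lit 850) (.leaf (nat_lit 849) (nat_lit 0x4837530210083021))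
 (.leaf (nat_lit 850) (nat_lit 0x393c030180083018))
)))) (.node (nat_lit 880) (.node (nat_lit 853) (.node (nat_lit 852) (.leaf (nat_lit 851) (nat_lit 0x3953831010083101))
 (.leaf (nat_lit 852) (nat_lit 0x4800030010083001))
) (.node (nat_lit 854) (.leaf (nat_lit 853) (nat_lit 0x4879930410083041))
 (.node (nat_lit 855) (.leaf (nat_lit 854) (nat_lit 0x3925630090083009))
 (.leaf (nat_lit 855) (nat_lit 0x394ad304f008304f))
))) (.node (nat_lit 883) (.node (nat_lit 881) (.leaf (nat_lit 880) (nat_lit 0x2b3c011000081100))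
 (.node (nat_lit 882) (.leaf (nat_lit 881) (nat_lit 0x1d5d710180081018))
 (.leaf (nat_lit 882) (nat_lit 0x2b53810200081020))
)) (.node (nat_lit 884) (.leaf (nat_lit 883) (nat_lit 0x2b4ad10100081010))
 (.node (nat_lit 885) (.leaf (nat_lit 884) (nat_lit 0x163c010400081040))
 (.leaf (nat_lit 885) (nat_lit 0x1600010000081000))
))))) (.node (nat_lit 961) (.node (nat_lit 955) (.node (nat_lit 952) (.node (nat_lit 887) (.leaf (nat_lit 886) (nat_lit 0x16375104e008104e))
 (.leaf (nat_lit 887) (nat_lit 0x1679910080081008))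
) (.node (nat_lit 953) (.leaf (nat_lit 952) (nat_lit 0x2400018400141840))
 (.node (nat_lit 954) (.leaf (nat_lit 953) (nat_lit 0x245d718000141800))
 (.leaf (nat_lit 954) (nat_lit 0x241d538420143842))
))) (.node (nat_lit 958) (.node (nat_lit 956) (.leaf (nat_lit 955) (nat_lit 0x2440038020143802))
 (.node (nat_lit 957) (.leaf (nat_lit 956) (nat_lit 0x243c01c000141c00))
 (.leaf (nat_lit 957) (nat_lit 0x24614185d014185d))
)) (.node (nat_lit 959) (.leaf (nat_lit 958) (nat_lit 0x2421718100141810))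
 (.node (nat_lit 960) (.leaf (nat_lit 959) (nat_lit 0x247c119000141900))
 (.leaf (nat_lit 960) (nat_lit 0x49800380200a3802))
)))) (.node (nat_lit 966) (.node (nat_lit 963) (.node (nat_lit 962) (.leaf (nat_lit 961) (nat_lit 0x49ec4384200a3842))
 (.leaf (nat_lit 962) (nat_lit 0x387dd380a00a380a))
) (.node (nat_lit 964) (.leaf (nat_lit 963) (nat_lit 0x384ad383d00a383d))
 (.node (nat_lit 965) (.leaf (nat_lit 964) (nat_lit 0x49b75382200a3822))
 (.leaf (nat_lit 965) (nat_lit 0x49bc0381200a3812))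
))) (.node (nat_lit 1001) (.node (nat_lit 967) (.leaf (nat_lit 966) (nat_lit 0x380b2390200a3902))
 (.node (nat_lit 1000) (.leaf (nat_lit 967) (nat_lit 0x383c0381a00a381a))
 (.leaf (nat_lit 1000) (nat_lit 0x16b75183e00a183e))
)) (.node (nat_lit 1002) (.leaf (nat_lit 1001) (nat_lit 0x168b2180800a1808))
 (.node (nat_lit 1003) (.leaf (nat_lit 1002) (nat_lit 0x16bc0184000a1840))
 (.leaf (nat_lit 1003) (nat_lit 0x16800180000a1800))
)))))))) (.node (nat_lit 1490) (.node (nat_lit 1247) (.node (nat_lit 1097) (.node (nat_lit 1030) (.node (nat_lit 1025) (.node (nat_lit 1006) (.node (nat_lit 1005) (.leaf (nat_lit 1004) (nat_lit 0x2a4ad181000a1810))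
 (.leaf (nat_lit 1005) (nat_lit 0x2a538182000a1820))
) (.node (nat_lit 1007) (.leaf (nat_lit 1006) (nat_lit 0x1ddd7181800a1818))
 (.node (nat_lit 1024) (.leaf (nat_lit 1007) (nat_lit 0x2a3c0190000a1900))
 (.leaf (nat_lit 1024) (nat_lit 0x7000700700e0000))
))) (.node (nat_lit 1027) (.node (nat_lit 1026) (.leaf (nat_lit 1025) (nat_lit 0x3a375704700e0048))
 (.leaf (nat_lit 1026) (nat_lit 0x7375710700e0100))
) (.node (nat_lit 1028) (.leaf (nat_lit 1027) (nat_lit 0x3a3c0701f00e0010))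
 (.node (nat_lit 1029) (.leaf (nat_lit 1028) (nat_lit 0x4f375702700e0040))
 (.leaf (nat_lit 1029) (nat_lit 0x76c4701700e0008))
)))) (.node (nat_lit 1083) (.node (nat_lit 1080) (.node (nat_lit 1031) (.leaf (nat_lit 1030) (nat_lit 0x3cbc0700f00e0018))
 (.leaf (nat_lit 1031) (nat_lit 0x73c0743900e0020))
) (.node (nat_lit 1081) (.leaf (nat_lit 1080) (nat_lit 0x10e14980800e0000))
 (.node (nat_lit 1082) (.leaf (nat_lit 1081) (nat_lit 0x10dd7983f00e0400))
 (.leaf (nat_lit 1082) (nat_lit 0x9dd7990000e0200))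
))) (.node (nat_lit 1086) (.node (nat_lit 1084) (.leaf (nat_lit 1083) (nat_lit 0x1b5d7981800e0010))
 (.node (nat_lit 1085) (.leaf (nat_lit 1084) (nat_lit 0x1b639982000e0080))
 (.leaf (nat_lit 1085) (nat_lit 0x9e14981000e0008))
)) (.node (nat_lit 1087) (.leaf (nat_lit 1086) (nat_lit 0x10800980000e0018))
 (.node (nat_lit 1096) (.leaf (nat_lit 1087) (nat_lit 0x10bc0984000e0020))
 (.leaf (nat_lit 1096) (nat_lit 0x28e1071b70120000))
))))) (.node (nat_lit 1180) (.node (nat_lit 1102) (.node (nat_lit 1099) (.node (nat_lit 1098) (.leaf (nat_lit 1097) (nat_lit 0x28bc074070120400))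
 (.leaf (nat_lit 1098) (nat_lit 0x28c0070070120080))
) (.node (nat_lit 1100) (.leaf (nat_lit 1099) (nat_lit 0x289d570470120010))
 (.node (nat_lit 1101) (.leaf (nat_lit 1100) (nat_lit 0x28dd7700f0120040))
 (.leaf (nat_lit 1101) (nat_lit 0x2880071a30120008))
))) (.node (nat_lit 1177) (.node (nat_lit 1103) (.leaf (nat_lit 1102) (nat_lit 0x28fc171070120020))
 (.node (nat_lit 1176) (.leaf (nat_lit 1103) (nat_lit 0x28a1370170120088))
 (.leaf (nat_lit 1176) (nat_lit 0x42efb50040101080))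
)) (.node (nat_lit 1178) (.leaf (nat_lit 1177) (nat_lit 0x4280050440101010))
 (.node (nat_lit 1179) (.leaf (nat_lit 1178) (nat_lit 0x42b7554040101400))
 (.leaf (nat_lit 1179) (nat_lit 0x42dd7510c0101000))
)))) (.node (nat_lit 1241) (.node (nat_lit 1182) (.node (nat_lit 1181) (.leaf (nat_lit 1180) (nat_lit 0x42c0051040101020))
 (.leaf (nat_lit 1181) (nat_lit 0x42af95014010108a))
) (.node (nat_lit 1183) (.leaf (nat_lit 1182) (nat_lit 0x2e80051a00101008))
 (.node (nat_lit 1240) (.leaf (nat_lit 1183) (nat_lit 0x42f77500c0101040))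
 (.leaf (nat_lit 1240) (nat_lit 0x46dd7501400a1008))
))) (.node (nat_lit 1244) (.node (nat_lit 1242) (.leaf (nat_lit 1241) (nat_lit 0x4d375502400a1040))
 (.node (nat_lit 1243) (.leaf (nat_lit 1242) (nat_lit 0x46bc0500c00a1018))
 (.leaf (nat_lit 1243) (nat_lit 0x46f36543a00a1020))
)) (.node (nat_lit 1245) (.leaf (nat_lit 1244) (nat_lit 0x4d799504400a104e))
 (.node (nat_lit 1246) (.leaf (nat_lit 1245) (nat_lit 0x46800500400a1000))
 (.leaf (nat_lit 1246) (nat_lit 0x55d7510400a1100))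
)))))) (.node (nat_lit 1332) (.node (nat_lit 1297) (.node (nat_lit 1268) (.node (nat_lit 1265) (.node (nat_lit 1264) (.leaf (nat_lit 1247) (nat_lit 0x46e10501c00a1010))
 (.leaf (nat_lit 1264) (nat_lit 0x28dd7b80d00a1000))
) (.node (nat_lit 1266) (.leaf (nat_lit 1265) (nat_lit 0x14dd7b9b600a1400))
 (.node (nat_lit 1267) (.leaf (nat_lit 1266) (nat_lit 0x44614b81c00a1010))
 (.leaf (nat_lit 1267) (nat_lit 0x28bc0b90500a1200))
))) (.node (nat_lit 1270) (.node (nat_lit 1269) (.leaf (nat_lit 1268) (nat_lit 0x28e10b82500a1080))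
 (.leaf (nat_lit 1269) (nat_lit 0x445d7b81500a1008))
) (.node (nat_lit 1271) (.leaf (nat_lit 1270) (nat_lit 0x14e39b84500a1020))
 (.node (nat_lit 1296) (.leaf (nat_lit 1271) (nat_lit 0x28800b80500a14dd))
 (.leaf (nat_lit 1296) (nat_lit 0x47e10581b0081810))
)))) (.node (nat_lit 1302) (.node (nat_lit 1299) (.node (nat_lit 1298) (.leaf (nat_lit 1297) (nat_lit 0x47ae659020081900))
 (.leaf (nat_lit 1298) (nat_lit 0x4c80058020081800))
) (.node (nat_lit 1300) (.leaf (nat_lit 1299) (nat_lit 0x4cf995842008183e))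
 (.node (nat_lit 1301) (.leaf (nat_lit 1300) (nat_lit 0x47bc0580a0081818))
 (.leaf (nat_lit 1301) (nat_lit 0x47f36584c0081820))
))) (.node (nat_lit 1329) (.node (nat_lit 1303) (.leaf (nat_lit 1302) (nat_lit 0x4cbc058120081808))
 (.node (nat_lit 1328) (.leaf (nat_lit 1303) (nat_lit 0x4cb7558220081840))
 (.leaf (nat_lit 1328) (nat_lit 0x45dd7b0140081808))
)) (.node (nat_lit 1330) (.leaf (nat_lit 1329) (nat_lit 0x298b2b0240081880))
 (.node (nat_lit 1331) (.leaf (nat_lit 1330) (nat_lit 0x29800b0040081852))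
 (.leaf (nat_lit 1331) (nat_lit 0x14312b0440081820))
))))) (.node (nat_lit 1359) (.node (nat_lit 1353) (.node (nat_lit 1334) (.node (nat_lit 1333) (.leaf (nat_lit 1332) (nat_lit 0x29b75b00c0081800))
 (.leaf (nat_lit 1333) (nat_lit 0x145d7b04a0081c00))
) (.node (nat_lit 1335) (.leaf (nat_lit 1334) (nat_lit 0x458c4b01d0081810))
 (.node (nat_lit 1352) (.leaf (nat_lit 1335) (nat_lit 0x29bc0b1040081a00))
 (.leaf (nat_lit 1352) (nat_lit 0x433755c020161c00))
))) (.node (nat_lit 1356) (.node (nat_lit 1354) (.leaf (nat_lit 1353) (nat_lit 0x435d75a910161800))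
 (.node (nat_lit 1355) (.leaf (nat_lit 1354) (nat_lit 0x436fb58020161880))
 (.leaf (nat_lit 1355) (nat_lit 0x4300058420161810))
)) (.node (nat_lit 1357) (.leaf (nat_lit 1356) (nat_lit 0x2fdd7580a0161840))
 (.node (nat_lit 1358) (.leaf (nat_lit 1357) (nat_lit 0x2f800584c0161808))
 (.leaf (nat_lit 1358) (nat_lit 0x2fa3458120161852))
)))) (.node (nat_lit 1412) (.node (nat_lit 1409) (.node (nat_lit 1408) (.leaf (nat_lit 1359) (nat_lit 0x4340059020161820))
 (.leaf (nat_lit 1408) (nat_lit 0x299d578450140810))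
) (.node (nat_lit 1410) (.leaf (nat_lit 1409) (nat_lit 0x29c0078050140880))
 (.node (nat_lit 1411) (.leaf (nat_lit 1410) (nat_lit 0x29b757c050140c00))
 (.leaf (nat_lit 1411) (nat_lit 0x29ea278580140800))
))) (.node (nat_lit 1415) (.node (nat_lit 1413) (.leaf (nat_lit 1412) (nat_lit 0x29f7779050140820))
 (.node (nat_lit 1414) (.leaf (nat_lit 1413) (nat_lit 0x29aa278150140888))
 (.leaf (nat_lit 1414) (nat_lit 0x29dd790040140840))
)) (.node (nat_lit 1488) (.leaf (nat_lit 1415) (nat_lit 0x2980090440140808))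
 (.node (nat_lit 1489) (.leaf (nat_lit 1488) (nat_lit 0x3dbc0780d00c0818))
 (.leaf (nat_lit 1489) (nat_lit 0x7bc079b500c0820))
))))))) (.node (nat_lit 1725) (.node (nat_lit 1543) (.node (nat_lit 1508) (.node (nat_lit 1495) (.node (nat_lit 1492) (.node (nat_lit 1491) (.leaf (nat_lit 1490) (nat_lit 0x3dcad782500c0840))
 (.leaf (nat_lit 1491) (nat_lit 0x7ec4781500c0808))
) (.node (nat_lit 1493) (.leaf (nat_lit 1492) (nat_lit 0x3b3c07de600c0810))
 (.node (nat_lit 1494) (.leaf (nat_lit 1493) (nat_lit 0x7b75790500c0900))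
 (.leaf (nat_lit 1494) (nat_lit 0x3b375784500c0848))
))) (.node (nat_lit 1505) (.node (nat_lit 1504) (.leaf (nat_lit 1495) (nat_lit 0x7800780500c0800))
 (.leaf (nat_lit 1504) (nat_lit 0x9614901400c0808))
) (.node (nat_lit 1506) (.leaf (nat_lit 1505) (nat_lit 0x1ae39902400c0880))
 (.node (nat_lit 1507) (.leaf (nat_lit 1506) (nat_lit 0x305d7904400c0820))
 (.leaf (nat_lit 1507) (nat_lit 0x10000900400c0818))
)))) (.node (nat_lit 1537) (.node (nat_lit 1510) (.node (nat_lit 1509) (.leaf (nat_lit 1508) (nat_lit 0x30681900c00c0800))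
 (.leaf (nat_lit 1509) (nat_lit 0x105d793c400c0c00))
) (.node (nat_lit 1511) (.leaf (nat_lit 1510) (nat_lit 0x95d7910400c0a00))
 (.node (nat_lit 1536) (.leaf (nat_lit 1511) (nat_lit 0x1add7901c00c0810))
 (.leaf (nat_lit 1536) (nat_lit 0x18000a803008381a))
))) (.node (nat_lit 1540) (.node (nat_lit 1538) (.leaf (nat_lit 1537) (nat_lit 0x1820aa8430083822))
 (.node (nat_lit 1539) (.leaf (nat_lit 1538) (nat_lit 0xad38a813008380a))
 (.leaf (nat_lit 1539) (nat_lit 0xacf7a8230083882))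
)) (.node (nat_lit 1541) (.leaf (nat_lit 1540) (nat_lit 0xaa0aa80b0083802))
 (.node (nat_lit 1542) (.leaf (nat_lit 1541) (nat_lit 0xabc0a84d0083c02))
 (.leaf (nat_lit 1542) (nat_lit 0x186fba81a0083812))
))))) (.node (nat_lit 1618) (.node (nat_lit 1572) (.node (nat_lit 1569) (.node (nat_lit 1568) (.leaf (nat_lit 1543) (nat_lit 0x184f7a9030083a02))
 (.leaf (nat_lit 1568) (nat_lit 0x4c00048070083802))
) (.node (nat_lit 1570) (.leaf (nat_lit 1569) (nat_lit 0x4c5384847008383d))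
 (.node (nat_lit 1571) (.leaf (nat_lit 1570) (nat_lit 0x4c209481f0083812))
 (.leaf (nat_lit 1571) (nat_lit 0x4c73649070083902))
))) (.node (nat_lit 1575) (.node (nat_lit 1573) (.leaf (nat_lit 1572) (nat_lit 0x4c1cb480f008381a))
 (.node (nat_lit 1574) (.leaf (nat_lit 1573) (nat_lit 0x4c4f748490083822))
 (.leaf (nat_lit 1574) (nat_lit 0x4c3c04817008380a))
)) (.node (nat_lit 1616) (.leaf (nat_lit 1575) (nat_lit 0x4c6fb48270083842))
 (.node (nat_lit 1617) (.leaf (nat_lit 1616) (nat_lit 0x4263048070143882))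
 (.leaf (nat_lit 1617) (nat_lit 0x4200048470143812))
)))) (.node (nat_lit 1623) (.node (nat_lit 1620) (.node (nat_lit 1619) (.leaf (nat_lit 1618) (nat_lit 0x423c04c070143c02))
 (.leaf (nat_lit 1619) (nat_lit 0x425d7490f0143802))
) (.node (nat_lit 1621) (.leaf (nat_lit 1620) (nat_lit 0x427c1480f0143842))
 (.node (nat_lit 1622) (.leaf (nat_lit 1621) (nat_lit 0x440004849014380a))
 (.leaf (nat_lit 1622) (nat_lit 0x4223448170143f9b))
))) (.node (nat_lit 1722) (.node (nat_lit 1720) (.leaf (nat_lit 1623) (nat_lit 0x4240049070143822))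
 (.node (nat_lit 1721) (.leaf (nat_lit 1720) (nat_lit 0x4defb60000102880))
 (.leaf (nat_lit 1721) (nat_lit 0x4d92060400102810))
)) (.node (nat_lit 1723) (.leaf (nat_lit 1722) (nat_lit 0x4dcf7605d0102800))
 (.node (nat_lit 1724) (.leaf (nat_lit 1723) (nat_lit 0x4db7564000102c00))
 (.leaf (nat_lit 1724) (nat_lit 0x4d80080440102808))
)))))) (.node (nat_lit 1802) (.node (nat_lit 1735) (.node (nat_lit 1730) (.node (nat_lit 1727) (.node (nat_lit 1726) (.leaf (nat_lit 1725) (nat_lit 0x4df8480040102840))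
 (.leaf (nat_lit 1726) (nat_lit 0x4da0a601001029b3))
) (.node (nat_lit 1728) (.leaf (nat_lit 1727) (nat_lit 0x4ddd761000102820))
 (.node (nat_lit 1729) (.leaf (nat_lit 1728) (nat_lit 0x21d3861b000e2820))
 (.leaf (nat_lit 1729) (nat_lit 0x21f36600800e2819))
))) (.node (nat_lit 1732) (.node (nat_lit 1731) (.leaf (nat_lit 1730) (nat_lit 0x3d5d7601000e2808))
 (.leaf (nat_lit 1731) (nat_lit 0x21bc0602000e2840))
) (.node (nat_lit 1733) (.leaf (nat_lit 1732) (nat_lit 0x21800600000e2800))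
 (.node (nat_lit 1734) (.leaf (nat_lit 1733) (nat_lit 0x3add7604000e29b3))
 (.leaf (nat_lit 1734) (nat_lit 0x21cf7610000e2900))
)))) (.node (nat_lit 1788) (.node (nat_lit 1785) (.node (nat_lit 1784) (.leaf (nat_lit 1735) (nat_lit 0x21efb65e300e2810))
 (.leaf (nat_lit 1784) (nat_lit 0x415d7801400e2808))
) (.node (nat_lit 1786) (.leaf (nat_lit 1785) (nat_lit 0x1bbc0802400e2880))
 (.node (nat_lit 1787) (.leaf (nat_lit 1786) (nat_lit 0x30dd7804400e2820))
 (.leaf (nat_lit 1787) (nat_lit 0x1b800800400e2819))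
))) (.node (nat_lit 1791) (.node (nat_lit 1789) (.leaf (nat_lit 1788) (nat_lit 0x308c4810400e2a00))
 (.node (nat_lit 1790) (.leaf (nat_lit 1789) (nat_lit 0x1bb75801c00e2810))
 (.leaf (nat_lit 1790) (nat_lit 0x41312800c00e2800))
)) (.node (nat_lit 1800) (.leaf (nat_lit 1791) (nat_lit 0x1b8b0804c00e2c00))
 (.node (nat_lit 1801) (.leaf (nat_lit 1800) (nat_lit 0x43e3440000123081))
 (.leaf (nat_lit 1801) (nat_lit 0x4380040400123011))
))))) (.node (nat_lit 1861) (.node (nat_lit 1807) (.node (nat_lit 1804) (.node (nat_lit 1803) (.leaf (nat_lit 1802) (nat_lit 0x43bc044000123401))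
 (.leaf (nat_lit 1803) (nat_lit 0x43dd741080123001))
) (.node (nat_lit 1805) (.leaf (nat_lit 1804) (nat_lit 0x4580041a40123009))
 (.node (nat_lit 1806) (.leaf (nat_lit 1805) (nat_lit 0x43fc040080123041))
 (.leaf (nat_lit 1806) (nat_lit 0x43c0041000123021))
))) (.node (nat_lit 1858) (.node (nat_lit 1856) (.leaf (nat_lit 1807) (nat_lit 0x43a344010012308b))
 (.node (nat_lit 1857) (.leaf (nat_lit 1856) (nat_lit 0x19f36a00d00a3001))
 (.leaf (nat_lit 1857) (nat_lit 0x19d38a1b600a3401))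
)) (.node (nat_lit 1859) (.leaf (nat_lit 1858) (nat_lit 0x19efba01c00a3011))
 (.node (nat_lit 1860) (.leaf (nat_lit 1859) (nat_lit 0x19cf7a10500a3201))
 (.leaf (nat_lit 1860) (nat_lit 0x19a0aa04500a3021))
)))) (.node (nat_lit 1898) (.node (nat_lit 1863) (.node (nat_lit 1862) (.leaf (nat_lit 1861) (nat_lit 0x19800a00500a34dc))
 (.leaf (nat_lit 1862) (nat_lit 0x19bc0a02500a3081))
) (.node (nat_lit 1896) (.leaf (nat_lit 1863) (nat_lit 0x199c8a01500a3009))
 (.node (nat_lit 1897) (.leaf (nat_lit 1896) (nat_lit 0x4dbc0401000a3009))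
 (.leaf (nat_lit 1897) (nat_lit 0x4ddd7402000a3041))
))) (.node (nat_lit 1901) (.node (nat_lit 1899) (.leaf (nat_lit 1898) (nat_lit 0x4dae6400800a3018))
 (.node (nat_lit 1900) (.leaf (nat_lit 1899) (nat_lit 0x4dcf7443e00a3021))
 (.leaf (nat_lit 1900) (nat_lit 0x4df36410000a3101))
)) (.node (nat_lit 1902) (.leaf (nat_lit 1901) (nat_lit 0x4d920401800a3011))
 (.node (nat_lit 1903) (.leaf (nat_lit 1902) (nat_lit 0x4de10404000a304f))
 (.leaf (nat_lit 1903) (nat_lit 0x4d800400000a3001))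
))))))))) (.node (nat_lit 6378) (.node (nat_lit 2522) (.node (nat_lit 2179) (.node (nat_lit 2037) (.node (nat_lit 1962) (.node (nat_lit 1949) (.node (nat_lit 1946) (.node (nat_lit 1945) (.leaf (nat_lit 1944) (nat_lit 0x3bdd7684600c2048))
 (.leaf (nat_lit 1945) (nat_lit 0x21000680600c2000))
) (.node (nat_lit 1947) (.leaf (nat_lit 1946) (nat_lit 0x215d7686c00c2010))
 (.node (nat_lit 1948) (.leaf (nat_lit 1947) (nat_lit 0x3be14690600c2100))
 (.leaf (nat_lit 1948) (nat_lit 0x21610683800c2020))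
))) (.node (nat_lit 1951) (.node (nat_lit 1950) (.leaf (nat_lit 1949) (nat_lit 0x3c639680e00c2018))
 (.leaf (nat_lit 1950) (nat_lit 0x3c5d7681600c2008))
) (.node (nat_lit 1960) (.leaf (nat_lit 1951) (nat_lit 0x213c0682600c2040))
 (.node (nat_lit 1961) (.leaf (nat_lit 1960) (nat_lit 0x40b12880e00c2000))
 (.leaf (nat_lit 1961) (nat_lit 0x1a0b2883900c2400))
)))) (.node (nat_lit 1967) (.node (nat_lit 1964) (.node (nat_lit 1963) (.leaf (nat_lit 1962) (nat_lit 0x310c4890600c2200))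
 (.leaf (nat_lit 1963) (nat_lit 0x1a375881e00c2010))
) (.node (nat_lit 1965) (.leaf (nat_lit 1964) (nat_lit 0x1a000880600c2018))
 (.node (nat_lit 1966) (.leaf (nat_lit 1965) (nat_lit 0x315d7884600c2020))
 (.leaf (nat_lit 1966) (nat_lit 0x1a3c0882600c2080))
))) (.node (nat_lit 2034) (.node (nat_lit 2032) (.leaf (nat_lit 1967) (nat_lit 0x40dd7881600c2008))
 (.node (nat_lit 2033) (.leaf (nat_lit 2032) (nat_lit 0x4c3756c060162400))
 (.leaf (nat_lit 2033) (nat_lit 0x4c4f7685b0162000))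
)) (.node (nat_lit 2035) (.leaf (nat_lit 2034) (nat_lit 0x4c12068460162010))
 (.node (nat_lit 2036) (.leaf (nat_lit 2035) (nat_lit 0x4c6fb68060162080))
 (.leaf (nat_lit 2036) (nat_lit 0x4c20968160162799))
))))) (.node (nat_lit 2068) (.node (nat_lit 2050) (.node (nat_lit 2039) (.node (nat_lit 2038) (.leaf (nat_lit 2037) (nat_lit 0x4c5d769060162020))
 (.leaf (nat_lit 2038) (nat_lit 0x4c00088460162008))
) (.node (nat_lit 2048) (.leaf (nat_lit 2039) (nat_lit 0x4c78488060162040))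
 (.node (nat_lit 2049) (.leaf (nat_lit 2048) (nat_lit 65536))
 (.leaf (nat_lit 2049) (nat_lit 0x180000040010004))
))) (.node (nat_lit 2057) (.node (nat_lit 2051) (.leaf (nat_lit 2050) (nat_lit 0x9d520000012000))
 (.node (nat_lit 2056) (.leaf (nat_lit 2051) (nat_lit 0x1d320040012004))
 (.leaf (nat_lit 2056) (nat_lit 0x1f020200012020))
)) (.node (nat_lit 2058) (.leaf (nat_lit 2057) (nat_lit 0x1f620240012024))
 (.node (nat_lit 2059) (.leaf (nat_lit 2058) (nat_lit 0xb700200010020))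
 (.leaf (nat_lit 2059) (nat_lit 0xb000240010024))
)))) (.node (nat_lit 2077) (.node (nat_lit 2070) (.node (nat_lit 2069) (.leaf (nat_lit 2068) (nat_lit 0x28d401260010126))
 (.leaf (nat_lit 2069) (nat_lit 0x28d001200010120))
) (.node (nat_lit 2071) (.leaf (nat_lit 2070) (nat_lit 0x298921000012100))
 (.node (nat_lit 2076) (.leaf (nat_lit 2071) (nat_lit 0x298d00600010060))
 (.leaf (nat_lit 2076) (nat_lit 0x293900440010044))
))) (.node (nat_lit 2176) (.node (nat_lit 2078) (.leaf (nat_lit 2077) (nat_lit 0x18c400400010040))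
 (.node (nat_lit 2079) (.leaf (nat_lit 2078) (nat_lit 0x191301000010100))
 (.leaf (nat_lit 2079) (nat_lit 0x28ef01040010104))
)) (.node (nat_lit 2177) (.leaf (nat_lit 2176) (nat_lit 0x1ad003200010320))
 (.node (nat_lit 2178) (.leaf (nat_lit 2177) (nat_lit 0x2afe03250010325))
 (.leaf (nat_lit 2178) (nat_lit 0x2ba202600010260))
)))))) (.node (nat_lit 2388) (.node (nat_lit 2201) (.node (nat_lit 2192) (.node (nat_lit 2185) (.node (nat_lit 2184) (.leaf (nat_lit 2179) (nat_lit 0x1b0502670010267))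
 (.leaf (nat_lit 2184) (nat_lit 0x1af303000010300))
) (.node (nat_lit 2186) (.leaf (nat_lit 2185) (nat_lit 0x2a4903050010305))
 (.node (nat_lit 2187) (.leaf (nat_lit 2186) (nat_lit 0x2b1602440010244))
 (.leaf (nat_lit 2187) (nat_lit 0x2b1202400010240))
))) (.node (nat_lit 2194) (.node (nat_lit 2193) (.leaf (nat_lit 2192) (nat_lit 0x3c022ad00122ad))
 (.leaf (nat_lit 2193) (nat_lit 0xbc022a900122a9))
) (.node (nat_lit 2195) (.leaf (nat_lit 2194) (nat_lit 0x21402000010200))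
 (.node (nat_lit 2200) (.leaf (nat_lit 2195) (nat_lit 0xa1402040010204))
 (.leaf (nat_lit 2200) (nat_lit 0xb7512000011200))
)))) (.node (nat_lit 2374) (.node (nat_lit 2203) (.node (nat_lit 2202) (.leaf (nat_lit 2201) (nat_lit 0x37512040011204))
 (.leaf (nat_lit 2202) (nat_lit 0x1bc002260010226))
) (.node (nat_lit 2372) (.leaf (nat_lit 2203) (nat_lit 0x23402200010220))
 (.node (nat_lit 2373) (.leaf (nat_lit 2372) (nat_lit 0xe100e040010e04))
 (.leaf (nat_lit 2373) (nat_lit 0x7c00e000010e00))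
))) (.node (nat_lit 2377) (.node (nat_lit 2375) (.leaf (nat_lit 2374) (nat_lit 0x61006040010604))
 (.node (nat_lit 2376) (.leaf (nat_lit 2375) (nat_lit 0x61406000010600))
 (.leaf (nat_lit 2376) (nat_lit 0x7e225000012500))
)) (.node (nat_lit 2378) (.leaf (nat_lit 2377) (nat_lit 0x7753c020013c02))
 (.node (nat_lit 2379) (.leaf (nat_lit 2378) (nat_lit 0x63006260010626))
 (.leaf (nat_lit 2379) (nat_lit 0x6a106200010620))
))))) (.node (nat_lit 2499) (.node (nat_lit 2393) (.node (nat_lit 2390) (.node (nat_lit 2389) (.leaf (nat_lit 2388) (nat_lit 0x2d6224270012427))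
 (.leaf (nat_lit 2389) (nat_lit 0x1e1424200012420))
) (.node (nat_lit 2391) (.leaf (nat_lit 2390) (nat_lit 0x1fc116000011600))
 (.node (nat_lit 2392) (.leaf (nat_lit 2391) (nat_lit 0x2cb116040011604))
 (.leaf (nat_lit 2392) (nat_lit 0x2dd724000012400))
))) (.node (nat_lit 2496) (.node (nat_lit 2394) (.leaf (nat_lit 2393) (nat_lit 0x2dd324040012404))
 (.node (nat_lit 2395) (.leaf (nat_lit 2394) (nat_lit 0x2c0007050010705))
 (.leaf (nat_lit 2395) (nat_lit 0x1fe207000010700))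
)) (.node (nat_lit 2497) (.leaf (nat_lit 2496) (nat_lit 0x2fc104640010464))
 (.node (nat_lit 2498) (.leaf (nat_lit 2497) (nat_lit 0x261204600010460))
 (.leaf (nat_lit 2498) (nat_lit 0x2e1405260010526))
)))) (.node (nat_lit 2516) (.node (nat_lit 2509) (.node (nat_lit 2508) (.leaf (nat_lit 2499) (nat_lit 0x2e1005200010520))
 (.leaf (nat_lit 2508) (nat_lit 0x277505040010504))
) (.node (nat_lit 2510) (.leaf (nat_lit 2509) (nat_lit 0x1c0005000010500))
 (.node (nat_lit 2511) (.leaf (nat_lit 2510) (nat_lit 0x1dd704400010440))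
 (.leaf (nat_lit 2511) (nat_lit 0x2f7704440010444))
))) (.node (nat_lit 2519) (.node (nat_lit 2517) (.leaf (nat_lit 2516) (nat_lit 0xdd304040010404))
 (.node (nat_lit 2518) (.leaf (nat_lit 2517) (nat_lit 0x40004000010400))
 (.leaf (nat_lit 2518) (nat_lit 0x5d30c040010c04))
)) (.node (nat_lit 2520) (.leaf (nat_lit 2519) (nat_lit 0xc000c000010c00))
 (.node (nat_lit 2521) (.leaf (nat_lit 2520) (nat_lit 0x56327b900127b9))
 (.leaf (nat_lit 2521) (nat_lit 0x5670c200010c20))
))))))) (.node (nat_lit 4467) (.node (nat_lit 4295) (.node (nat_lit 4114) (.node (nat_lit 4103) (.node (nat_lit 4098) (.node (nat_lit 2523) (.leaf (nat_lit 2522) (nat_lit 0x42304200010420))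
 (.leaf (nat_lit 2523) (nat_lit 0x4b004270010427))
) (.node (nat_lit 4099) (.leaf (nat_lit 4098) (nat_lit 0x400540040008000))
 (.node (nat_lit 4102) (.leaf (nat_lit 4099) (nat_lit 0x480040000008002))
 (.leaf (nat_lit 4102) (nat_lit 0xa800800000080c0))
))) (.node (nat_lit 4105) (.node (nat_lit 4104) (.leaf (nat_lit 4103) (nat_lit 0xa810800400080c2))
 (.leaf (nat_lit 4104) (nat_lit 0x492041a00008080))
) (.node (nat_lit 4108) (.leaf (nat_lit 4105) (nat_lit 0xa85a41a40008082))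
 (.node (nat_lit 4109) (.leaf (nat_lit 4108) (nat_lit 0xa98a40620008040))
 (.leaf (nat_lit 4109) (nat_lit 0x48fb40660008042))
)))) (.node (nat_lit 4121) (.node (nat_lit 4118) (.node (nat_lit 4115) (.leaf (nat_lit 4114) (nat_lit 0xa8a141650008140))
 (.leaf (nat_lit 4115) (nat_lit 0xa8b280240008143))
) (.node (nat_lit 4119) (.leaf (nat_lit 4118) (nat_lit 0x48b240240008020))
 (.node (nat_lit 4120) (.leaf (nat_lit 4119) (nat_lit 0xa97d40200008022))
 (.leaf (nat_lit 4120) (nat_lit 0xa93b40400008060))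
))) (.node (nat_lit 4290) (.node (nat_lit 4124) (.leaf (nat_lit 4121) (nat_lit 0xa92040440008062))
 (.node (nat_lit 4125) (.leaf (nat_lit 4124) (nat_lit 0xa8fb41060008102))
 (.leaf (nat_lit 4125) (nat_lit 0xa0fb41000008100))
)) (.node (nat_lit 4291) (.leaf (nat_lit 4290) (nat_lit 0xaefb453e0008502))
 (.node (nat_lit 4294) (.leaf (nat_lit 4291) (nat_lit 0xaefd45380008500))
 (.leaf (nat_lit 4294) (nat_lit 0x44f2447f0008c02))
))))) (.node (nat_lit 4318) (.node (nat_lit 4304) (.node (nat_lit 4297) (.node (nat_lit 4296) (.leaf (nat_lit 4295) (nat_lit 0xaf3644650008c00))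
 (.leaf (nat_lit 4296) (nat_lit 0xaeb264000009420))
) (.node (nat_lit 4300) (.leaf (nat_lit 4297) (nat_lit 0xaea164050008540))
 (.node (nat_lit 4301) (.leaf (nat_lit 4300) (nat_lit 0xaf7744000008427))
 (.leaf (nat_lit 4301) (nat_lit 0xa78444040008420))
))) (.node (nat_lit 4309) (.node (nat_lit 4305) (.leaf (nat_lit 4304) (nat_lit 0xaf8444440008442))
 (.node (nat_lit 4308) (.leaf (nat_lit 4305) (nat_lit 0xa77744400008440))
 (.leaf (nat_lit 4308) (nat_lit 0xae4e45000008487))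
)) (.node (nat_lit 4314) (.leaf (nat_lit 4309) (nat_lit 0x4dd745040008480))
 (.node (nat_lit 4315) (.leaf (nat_lit 4314) (nat_lit 0x443b443a0008400))
 (.leaf (nat_lit 4315) (nat_lit 0x4cf7443e0008402))
)))) (.node (nat_lit 4453) (.node (nat_lit 4448) (.node (nat_lit 4319) (.leaf (nat_lit 4318) (nat_lit 0xae00456e0009400))
 (.leaf (nat_lit 4319) (nat_lit 0xae1087a80009402))
) (.node (nat_lit 4449) (.leaf (nat_lit 4448) (nat_lit 0x4efb474e0008226))
 (.node (nat_lit 4452) (.leaf (nat_lit 4449) (nat_lit 0xa4f747490008220))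
 (.leaf (nat_lit 4452) (nat_lit 0xacb146000009220))
))) (.node (nat_lit 4460) (.node (nat_lit 4456) (.leaf (nat_lit 4453) (nat_lit 0x460546040008340))
 (.node (nat_lit 4457) (.leaf (nat_lit 4456) (nat_lit 0x46fe466d0008302))
 (.leaf (nat_lit 4457) (nat_lit 0xacf7466b0008300))
)) (.node (nat_lit 4461) (.leaf (nat_lit 4460) (nat_lit 0x4e00472f0008260))
 (.node (nat_lit 4466) (.leaf (nat_lit 4461) (nat_lit 0xad28472b0008267))
 (.leaf (nat_lit 4466) (nat_lit 0xadd1476b0008200))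
)))))) (.node (nat_lit 4542) (.node (nat_lit 4519) (.node (nat_lit 4478) (.node (nat_lit 4471) (.node (nat_lit 4470) (.leaf (nat_lit 4467) (nat_lit 0xadd7476f0008202))
 (.leaf (nat_lit 4470) (nat_lit 0xac00463c0009200))
) (.node (nat_lit 4474) (.leaf (nat_lit 4471) (nat_lit 0xa58a84d90009202))
 (.node (nat_lit 4475) (.leaf (nat_lit 4474) (nat_lit 0xa5d746c90008286))
 (.leaf (nat_lit 4475) (nat_lit 0xac4284040008280))
))) (.node (nat_lit 4514) (.node (nat_lit 4479) (.leaf (nat_lit 4478) (nat_lit 0xa40047080008242))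
 (.leaf (nat_lit 4479) (nat_lit 0xad8a470c0008240))
) (.node (nat_lit 4515) (.leaf (nat_lit 4514) (nat_lit 0xa32842650008686))
 (.node (nat_lit 4518) (.leaf (nat_lit 4515) (nat_lit 0xa32e42610008680))
 (.leaf (nat_lit 4518) (nat_lit 0xa2f943a50008642))
)))) (.node (nat_lit 4530) (.node (nat_lit 4523) (.node (nat_lit 4522) (.leaf (nat_lit 4519) (nat_lit 0xa2f743a10008640))
 (.leaf (nat_lit 4522) (nat_lit 0xa375420400096dc))
) (.node (nat_lit 4526) (.leaf (nat_lit 4523) (nat_lit 0xaa0a420000096de))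
 (.node (nat_lit 4527) (.leaf (nat_lit 4526) (nat_lit 0xabc043540008602))
 (.leaf (nat_lit 4527) (nat_lit 0x8bc082a90008600))
))) (.node (nat_lit 4535) (.node (nat_lit 4531) (.leaf (nat_lit 4530) (nat_lit 0xaaf742400008700))
 (.node (nat_lit 4534) (.leaf (nat_lit 4531) (nat_lit 0xaaf942440008707))
 (.leaf (nat_lit 4534) (nat_lit 0xab2843050008e97))
)) (.node (nat_lit 4538) (.leaf (nat_lit 4535) (nat_lit 0xab2e43000008e95))
 (.node (nat_lit 4539) (.leaf (nat_lit 4538) (nat_lit 0x8a3442200008e00))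
 (.leaf (nat_lit 4539) (nat_lit 0x4bc042260008e02))
))))) (.node (nat_lit 6163) (.node (nat_lit 6151) (.node (nat_lit 6144) (.node (nat_lit 4543) (.leaf (nat_lit 4542) (nat_lit 0xab75436b0008626))
 (.leaf (nat_lit 4543) (nat_lit 0xa2094a070008620))
) (.node (nat_lit 6145) (.leaf (nat_lit 6144) (nat_lit 0x90009000000a0c0))
 (.node (nat_lit 6150) (.leaf (nat_lit 6145) (nat_lit 0x98009004000a165))
 (.leaf (nat_lit 6150) (nat_lit 0x91d75000000a000))
))) (.node (nat_lit 6156) (.node (nat_lit 6154) (.leaf (nat_lit 6151) (nat_lit 0x91d25004000a002))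
 (.node (nat_lit 6155) (.leaf (nat_lit 6154) (nat_lit 0x99135066000a040))
 (.leaf (nat_lit 6155) (nat_lit 0x91135062000a042))
)) (.node (nat_lit 6157) (.leaf (nat_lit 6156) (nat_lit 0x793951a4000a080))
 (.node (nat_lit 6162) (.leaf (nat_lit 6157) (nat_lit 0x98c451a0000a082))
 (.leaf (nat_lit 6162) (nat_lit 0x98e05102000a102))
)))) (.node (nat_lit 6174) (.node (nat_lit 6165) (.node (nat_lit 6164) (.leaf (nat_lit 6163) (nat_lit 0x98e75104000a100))
 (.leaf (nat_lit 6164) (nat_lit 0x99375044000a060))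
) (.node (nat_lit 6168) (.leaf (nat_lit 6165) (nat_lit 0x99305042000a062))
 (.node (nat_lit 6169) (.leaf (nat_lit 6168) (nat_lit 0x99f05020000a020))
 (.leaf (nat_lit 6169) (nat_lit 0x91f65024000a022))
))) (.node (nat_lit 6369) (.node (nat_lit 6175) (.leaf (nat_lit 6174) (nat_lit 0x90205161000a140))
 (.node (nat_lit 6368) (.leaf (nat_lit 6175) (nat_lit 0x98209024000a143))
 (.leaf (nat_lit 6368) (nat_lit 0x9614547b000ac02))
)) (.node (nat_lit 6374) (.leaf (nat_lit 6369) (nat_lit 0x961054fa000ac00))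
 (.node (nat_lit 6375) (.leaf (nat_lit 6374) (nat_lit 0x97c1553a000a502))
 (.leaf (nat_lit 6375) (nat_lit 0x9f25553c000a500))
)))))))) (.node (nat_lit 9014) (.node (nat_lit 6655) (.node (nat_lit 6419) (.node (nat_lit 6396) (.node (nat_lit 6385) (.node (nat_lit 6380) (.node (nat_lit 6379) (.leaf (nat_lit 6378) (nat_lit 0x9e345404000a427))
 (.leaf (nat_lit 6379) (nat_lit 0x9e305400000a420))
) (.node (nat_lit 6381) (.leaf (nat_lit 6380) (nat_lit 0x9fe27c05000b421))
 (.node (nat_lit 6384) (.leaf (nat_lit 6381) (nat_lit 0x9fe67c00000a540))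
 (.leaf (nat_lit 6384) (nat_lit 0x9725556a000b401))
))) (.node (nat_lit 6391) (.node (nat_lit 6390) (.leaf (nat_lit 6385) (nat_lit 0x9fc197a8000b403))
 (.leaf (nat_lit 6390) (nat_lit 0x9e14543e000a400))
) (.node (nat_lit 6394) (.leaf (nat_lit 6391) (nat_lit 0x9e10543a000a402))
 (.node (nat_lit 6395) (.leaf (nat_lit 6394) (nat_lit 0x97e45504000a487))
 (.leaf (nat_lit 6395) (nat_lit 0x97e25500000a480))
)))) (.node (nat_lit 6405) (.node (nat_lit 6402) (.node (nat_lit 6397) (.leaf (nat_lit 6396) (nat_lit 0x96345440000a442))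
 (.leaf (nat_lit 6397) (nat_lit 0x96305444000a440))
) (.node (nat_lit 6403) (.leaf (nat_lit 6402) (nat_lit 0x9ad55265000a69e))
 (.node (nat_lit 6404) (.leaf (nat_lit 6403) (nat_lit 0x9ad052ee000a69c))
 (.leaf (nat_lit 6404) (nat_lit 0x9b0553af000a7f9))
))) (.node (nat_lit 6412) (.node (nat_lit 6410) (.leaf (nat_lit 6405) (nat_lit 0x92f253a9000a7ff))
 (.node (nat_lit 6411) (.leaf (nat_lit 6410) (nat_lit 0x9a155204000af9b))
 (.leaf (nat_lit 6411) (nat_lit 0x9a105200000bf9b))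
)) (.node (nat_lit 6413) (.leaf (nat_lit 6412) (nat_lit 0x923453ce000a600))
 (.node (nat_lit 6418) (.leaf (nat_lit 6413) (nat_lit 0x9bc05350000a7b9))
 (.leaf (nat_lit 6418) (nat_lit 0x9a345222000bfbb))
))))) (.node (nat_lit 6634) (.node (nat_lit 6428) (.node (nat_lit 6421) (.node (nat_lit 6420) (.leaf (nat_lit 6419) (nat_lit 0x93c05224000afbb))
 (.leaf (nat_lit 6420) (nat_lit 0x921053ef000a79b))
) (.node (nat_lit 6426) (.leaf (nat_lit 6421) (nat_lit 0x921553eb000a799))
 (.node (nat_lit 6427) (.leaf (nat_lit 6426) (nat_lit 0x7a495243000a718))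
 (.leaf (nat_lit 6427) (nat_lit 0x9af25244000a71a))
))) (.node (nat_lit 6627) (.node (nat_lit 6429) (.leaf (nat_lit 6428) (nat_lit 0x9b205304000a7d9))
 (.node (nat_lit 6626) (.leaf (nat_lit 6429) (nat_lit 0x92d55301000a7db))
 (.leaf (nat_lit 6626) (nat_lit 0x9c21574a000a226))
)) (.node (nat_lit 6628) (.leaf (nat_lit 6627) (nat_lit 0x9c25574d000a220))
 (.node (nat_lit 6629) (.leaf (nat_lit 6628) (nat_lit 0x9df55604000a2ee))
 (.leaf (nat_lit 6629) (nat_lit 0x9df35600000a2ec))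
)))) (.node (nat_lit 6641) (.node (nat_lit 6636) (.node (nat_lit 6635) (.leaf (nat_lit 6634) (nat_lit 0x942556fb000a2ad))
 (.leaf (nat_lit 6635) (nat_lit 0x942356ff000a2af))
) (.node (nat_lit 6637) (.leaf (nat_lit 6636) (nat_lit 0x95f5572b000a265))
 (.node (nat_lit 6640) (.leaf (nat_lit 6637) (nat_lit 0x95f395e7000a267))
 (.leaf (nat_lit 6640) (nat_lit 0x940056cd000a28c))
))) (.node (nat_lit 6648) (.node (nat_lit 6646) (.leaf (nat_lit 6641) (nat_lit 0x9d1256de000a280))
 (.node (nat_lit 6647) (.leaf (nat_lit 6646) (nat_lit 0x95d7570c000ba02))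
 (.leaf (nat_lit 6647) (nat_lit 0x95d37768000a240))
)) (.node (nat_lit 6649) (.leaf (nat_lit 6648) (nat_lit 0x9c00576f000a200))
 (.node (nat_lit 6654) (.leaf (nat_lit 6649) (nat_lit 0x9512576b000a202))
 (.leaf (nat_lit 6654) (nat_lit 0x9dd35638000b201))
)))))) (.node (nat_lit 8332) (.node (nat_lit 8229) (.node (nat_lit 8204) (.node (nat_lit 8197) (.node (nat_lit 8196) (.leaf (nat_lit 6655) (nat_lit 0x9dd756bf000a2cd))
 (.leaf (nat_lit 8196) (nat_lit 0x1800000000080000))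
) (.node (nat_lit 8198) (.leaf (nat_lit 8197) (nat_lit 0xd00000200080020))
 (.node (nat_lit 8199) (.leaf (nat_lit 8198) (nat_lit 0x1801000040080004))
 (.leaf (nat_lit 8199) (nat_lit 0x1980008000080800))
))) (.node (nat_lit 8206) (.node (nat_lit 8205) (.leaf (nat_lit 8204) (nat_lit 0x19b9900100080010))
 (.leaf (nat_lit 8205) (nat_lit 0x19a5000300080030))
) (.node (nat_lit 8207) (.leaf (nat_lit 8206) (nat_lit 0x19b8100140080014))
 (.node (nat_lit 8228) (.leaf (nat_lit 8207) (nat_lit 0xcaf908100080810))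
 (.leaf (nat_lit 8228) (nat_lit 0x186fb00600080060))
)))) (.node (nat_lit 8238) (.node (nat_lit 8231) (.node (nat_lit 8230) (.leaf (nat_lit 8229) (nat_lit 0x19cb100400080040))
 (.leaf (nat_lit 8230) (nat_lit 0x19d6620400082040))
) (.node (nat_lit 8236) (.leaf (nat_lit 8231) (nat_lit 0x1873600440080044))
 (.node (nat_lit 8237) (.leaf (nat_lit 8236) (nat_lit 0x19f2e08400080840))
 (.leaf (nat_lit 8237) (nat_lit 0x19efb00500080050))
))) (.node (nat_lit 8325) (.node (nat_lit 8239) (.leaf (nat_lit 8238) (nat_lit 0x19f3608440080844))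
 (.node (nat_lit 8324) (.leaf (nat_lit 8239) (nat_lit 0x19efd00540080054))
 (.leaf (nat_lit 8324) (nat_lit 0x1997d01440090144))
)) (.node (nat_lit 8326) (.leaf (nat_lit 8325) (nat_lit 0x198b201670090167))
 (.node (nat_lit 8327) (.leaf (nat_lit 8326) (nat_lit 0x180b201400090140))
 (.leaf (nat_lit 8327) (nat_lit 0x1817d02500090250))
))))) (.node (nat_lit 8363) (.node (nat_lit 8353) (.node (nat_lit 8334) (.node (nat_lit 8333) (.leaf (nat_lit 8332) (nat_lit 0x1832e02400090240))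
 (.leaf (nat_lit 8333) (nat_lit 0x19b2802600090260))
) (.node (nat_lit 8335) (.leaf (nat_lit 8334) (nat_lit 0x19af902440090244))
 (.node (nat_lit 8352) (.leaf (nat_lit 8335) (nat_lit 0x19b2e01500090150))
 (.leaf (nat_lit 8352) (nat_lit 0x19c1a01000090100))
))) (.node (nat_lit 8360) (.node (nat_lit 8354) (.leaf (nat_lit 8353) (nat_lit 0x19dd702100090210))
 (.node (nat_lit 8355) (.leaf (nat_lit 8354) (nat_lit 0x19c0001040090104))
 (.leaf (nat_lit 8355) (nat_lit 0x19dd101260090126))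
)) (.node (nat_lit 8361) (.leaf (nat_lit 8360) (nat_lit 0xcd8a02040090204))
 (.node (nat_lit 8362) (.leaf (nat_lit 8361) (nat_lit 0x185d701100090110))
 (.leaf (nat_lit 8362) (nat_lit 0x19f8402000090200))
)))) (.node (nat_lit 8984) (.node (nat_lit 8981) (.node (nat_lit 8980) (.leaf (nat_lit 8363) (nat_lit 0x19e4e02200090220))
 (.leaf (nat_lit 8980) (nat_lit 0x19fd90c200080c20))
) (.node (nat_lit 8982) (.leaf (nat_lit 8981) (nat_lit 0x19e140c000080c00))
 (.node (nat_lit 8983) (.leaf (nat_lit 8982) (nat_lit 0x184f70c270080c27))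
 (.leaf (nat_lit 8983) (nat_lit 0x19e100c040080c04))
))) (.node (nat_lit 8987) (.node (nat_lit 8985) (.leaf (nat_lit 8984) (nat_lit 0x19d8a05470080547))
 (.node (nat_lit 8986) (.leaf (nat_lit 8985) (nat_lit 0x19c420c100080c10))
 (.leaf (nat_lit 8986) (nat_lit 0xce4405400080540))
)) (.node (nat_lit 9012) (.leaf (nat_lit 8987) (nat_lit 0x187770c140080c14))
 (.node (nat_lit 9013) (.leaf (nat_lit 9012) (nat_lit 0x19b7506000080600))
 (.leaf (nat_lit 9013) (nat_lit 0x1923406200080620))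
))))))) (.node (nat_lit 10377) (.node (nat_lit 9147) (.node (nat_lit 9116) (.node (nat_lit 9019) (.node (nat_lit 9016) (.node (nat_lit 9015) (.leaf (nat_lit 9014) (nat_lit 0xcb7506040080604))
 (.leaf (nat_lit 9015) (nat_lit 0x183c005100080510))
) (.node (nat_lit 9017) (.leaf (nat_lit 9016) (nat_lit 0x1993b0c400080c40))
 (.node (nat_lit 9018) (.leaf (nat_lit 9017) (nat_lit 0x198f005040080504))
 (.leaf (nat_lit 9018) (nat_lit 0x1992006100080610))
))) (.node (nat_lit 9105) (.node (nat_lit 9104) (.leaf (nat_lit 9019) (nat_lit 0x198ea05000080500))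
 (.leaf (nat_lit 9104) (nat_lit 0xcc0004370090437))
) (.node (nat_lit 9106) (.leaf (nat_lit 9105) (nat_lit 0x19f7704140090414))
 (.node (nat_lit 9107) (.leaf (nat_lit 9106) (nat_lit 0x19ea104300090430))
 (.leaf (nat_lit 9107) (nat_lit 0x1844204100090410))
)))) (.node (nat_lit 9141) (.node (nat_lit 9118) (.node (nat_lit 9117) (.leaf (nat_lit 9116) (nat_lit 0x1861004040090404))
 (.leaf (nat_lit 9117) (nat_lit 0x19cf704270090427))
) (.node (nat_lit 9119) (.leaf (nat_lit 9118) (nat_lit 0x1860004000090400))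
 (.node (nat_lit 9140) (.leaf (nat_lit 9119) (nat_lit 0x187d904200090420))
 (.leaf (nat_lit 9140) (nat_lit 0x193c00d960090d96))
))) (.node (nat_lit 9144) (.node (nat_lit 9142) (.leaf (nat_lit 9141) (nat_lit 0x19a0a04500090450))
 (.node (nat_lit 9143) (.leaf (nat_lit 9142) (nat_lit 0x19bc00d1a0090d1a))
 (.leaf (nat_lit 9143) (nat_lit 0x19a1304540090454))
)) (.node (nat_lit 9145) (.leaf (nat_lit 9144) (nat_lit 0x1985a04400090440))
 (.node (nat_lit 9146) (.leaf (nat_lit 9145) (nat_lit 0x180fb04600090460))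
 (.leaf (nat_lit 9146) (nat_lit 0x1812004440090444))
))))) (.node (nat_lit 10294) (.node (nat_lit 10248) (.node (nat_lit 10241) (.node (nat_lit 10240) (.leaf (nat_lit 9147) (nat_lit 0x1998a04640090464))
 (.leaf (nat_lit 10240) (nat_lit 0x1a000100000d1000))
) (.node (nat_lit 10242) (.leaf (nat_lit 10241) (nat_lit 0x1b804102000d1020))
 (.node (nat_lit 10243) (.leaf (nat_lit 10242) (nat_lit 0x1b800180000d1800))
 (.leaf (nat_lit 10243) (nat_lit 0x1b9d1100400d1004))
))) (.node (nat_lit 10251) (.node (nat_lit 10249) (.leaf (nat_lit 10248) (nat_lit 0x1ba4e103000d1030))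
 (.node (nat_lit 10250) (.leaf (nat_lit 10249) (nat_lit 0x1bb9a101000d1010))
 (.leaf (nat_lit 10250) (nat_lit 0x1a24e101400d1014))
)) (.node (nat_lit 10292) (.leaf (nat_lit 10251) (nat_lit 0x1ba49103400d1034))
 (.node (nat_lit 10293) (.leaf (nat_lit 10292) (nat_lit 0x1bd62106000d1060))
 (.leaf (nat_lit 10293) (nat_lit 0x1bcb3104000d1040))
)))) (.node (nat_lit 10303) (.node (nat_lit 10300) (.node (nat_lit 10295) (.leaf (nat_lit 10294) (nat_lit 0x1bcb5104e00d104e))
 (.leaf (nat_lit 10295) (nat_lit 0x1bd64106e00d106e))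
) (.node (nat_lit 10301) (.leaf (nat_lit 10300) (nat_lit 0x1a562105000d1050))
 (.node (nat_lit 10302) (.leaf (nat_lit 10301) (nat_lit 0x1a4b1184000d1840))
 (.leaf (nat_lit 10302) (nat_lit 0x1a4b5107500d1075))
))) (.node (nat_lit 10370) (.node (nat_lit 10368) (.leaf (nat_lit 10303) (nat_lit 0x1a566105e00d105e))
 (.node (nat_lit 10369) (.leaf (nat_lit 10368) (nat_lit 0x1a328124c00c124c))
 (.leaf (nat_lit 10369) (nat_lit 0x1bb2e115100c1151))
)) (.node (nat_lit 10371) (.leaf (nat_lit 10370) (nat_lit 0x1a2f9115f00c115f))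
 (.node (nat_lit 10376) (.leaf (nat_lit 10371) (nat_lit 0x1a32e124000c1240))
 (.leaf (nat_lit 10376) (nat_lit 0x1a163125000c1250))
)))))) (.node (nat_lit 10866) (.node (nat_lit 10427) (.node (nat_lit 10418) (.node (nat_lit 10379) (.node (nat_lit 10378) (.leaf (nat_lit 10377) (nat_lit 0x1a0b2114000c1140))
 (.leaf (nat_lit 10378) (nat_lit 0x1a0b6114c00c114c))
) (.node (nat_lit 10416) (.leaf (nat_lit 10379) (nat_lit 0x1b8b0125c00c125c))
 (.node (nat_lit 10417) (.leaf (nat_lit 10416) (nat_lit 0x1a400120000c1200))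
 (.leaf (nat_lit 10417) (nat_lit 0x1a5d3111f00c111f))
))) (.node (nat_lit 10424) (.node (nat_lit 10419) (.leaf (nat_lit 10418) (nat_lit 0x1a5d7111b00c111b))
 (.leaf (nat_lit 10419) (nat_lit 0x1ad42120400c1204))
) (.node (nat_lit 10425) (.leaf (nat_lit 10424) (nat_lit 0x1bdd3112600c1126))
 (.node (nat_lit 10426) (.leaf (nat_lit 10425) (nat_lit 0x1bc00110400c1104))
 (.leaf (nat_lit 10426) (nat_lit 0x1bc04110000c1100))
)))) (.node (nat_lit 10824) (.node (nat_lit 10821) (.node (nat_lit 10820) (.leaf (nat_lit 10427) (nat_lit 0x1bdd7121000c1210))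
 (.leaf (nat_lit 10820) (nat_lit 0x1a18a150000d1500))
) (.node (nat_lit 10822) (.leaf (nat_lit 10821) (nat_lit 0x1b93e161000d1610))
 (.node (nat_lit 10823) (.leaf (nat_lit 10822) (nat_lit 0x1a05b1ccc00d1ccc))
 (.leaf (nat_lit 10823) (nat_lit 0x1b8ef150400d1504))
))) (.node (nat_lit 10827) (.node (nat_lit 10825) (.leaf (nat_lit 10824) (nat_lit 0x1a21334dc00d34dc))
 (.node (nat_lit 10826) (.leaf (nat_lit 10825) (nat_lit 0x1a3c0151b00d151b))
 (.leaf (nat_lit 10826) (nat_lit 0x1a3c4151f00d151f))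
)) (.node (nat_lit 10864) (.leaf (nat_lit 10827) (nat_lit 0x1bb75160000d1600))
 (.node (nat_lit 10865) (.leaf (nat_lit 10864) (nat_lit 0x1a6a615c400d15c4))
 (.leaf (nat_lit 10865) (nat_lit 0x1a77716de00d16de))
))))) (.node (nat_lit 10953) (.node (nat_lit 10879) (.node (nat_lit 10876) (.node (nat_lit 10867) (.leaf (nat_lit 10866) (nat_lit 0x1aeab16da00d16da))
 (.leaf (nat_lit 10867) (nat_lit 0x1a6a215c000d15c0))
) (.node (nat_lit 10877) (.leaf (nat_lit 10876) (nat_lit 0x1be101c0400d1c04))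
 (.node (nat_lit 10878) (.leaf (nat_lit 10877) (nat_lit 0x1bfc1340100d3401))
 (.leaf (nat_lit 10878) (nat_lit 0x1bfc515db00d15db))
))) (.node (nat_lit 10950) (.node (nat_lit 10948) (.leaf (nat_lit 10879) (nat_lit 0x1be141c0000d1c00))
 (.node (nat_lit 10949) (.leaf (nat_lit 10948) (nat_lit 0x1ba1314d900c14d9))
 (.leaf (nat_lit 10949) (nat_lit 0x1bbc01d1200c1d12))
)) (.node (nat_lit 10951) (.leaf (nat_lit 10950) (nat_lit 0x1bbc414fd00c14fd))
 (.node (nat_lit 10952) (.leaf (nat_lit 10951) (nat_lit 0x1a37514dd00c14dd))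
 (.leaf (nat_lit 10952) (nat_lit 0x1a13e144400c1444))
)))) (.node (nat_lit 10998) (.node (nat_lit 10955) (.node (nat_lit 10954) (.leaf (nat_lit 10953) (nat_lit 0x1b98a14e900c14e9))
 (.leaf (nat_lit 10954) (nat_lit 0x1b98d14ef00c14ef))
) (.node (nat_lit 10996) (.leaf (nat_lit 10955) (nat_lit 0x1b85b14cd00c14cd))
 (.node (nat_lit 10997) (.leaf (nat_lit 10996) (nat_lit 0x1bea2143000c1430))
 (.leaf (nat_lit 10997) (nat_lit 0x1bf71141000c1410))
))) (.node (nat_lit 11001) (.node (nat_lit 10999) (.leaf (nat_lit 10998) (nat_lit 0x1bf77149c00c149c))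
 (.node (nat_lit 11000) (.leaf (nat_lit 10999) (nat_lit 0x1bea4143400c1434))
 (.leaf (nat_lit 11000) (nat_lit 0x1a7c5142000c1420))
)) (.node (nat_lit 11002) (.leaf (nat_lit 11001) (nat_lit 0x1a614140000c1400))
 (.node (nat_lit 11003) (.leaf (nat_lit 11002) (nat_lit 0x1a610140400c1404))
 (.leaf (nat_lit 11003) (nat_lit 0x1a7c1142700c1427))
))))))))))

end Cfsg.Agent.RuG
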